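import Cfsg.Agent.Lib.Orders.EqualOrder.Basic
import Cfsg.Agent.Lib.Known.AutPSL.Field

/-!
Owner: helper24. S4019: almost simple groups of odd index over `PSL(2, q)`.
-/

set_option autoImplicit false
set_option linter.all false

namespace CfsgLib.Orders.EqOrder

open Subgroup CfsgLib.Known.AutPSL Matrix

universe u
variable {G : Type u} [Group G] [Finite G]

/-- the conjugation action on a normal simple subgroup, transported -/
noncomputable def actHom (M : Subgroup G) [M.Normal] {T : Type*} [Group T] (e : M ≃* T) :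
    G →* MulAut T :=
  (MulAut.congr e).toMonoidHom.comp MulAut.conjNormal

theorem actHom_injective (M : Subgroup G) [M.Normal] {T : Type*} [Group T] (e : M ≃* T)
    (hC : centralizer (M : Set G) = ⊥) : Function.Injective (actHom M e) := by
  refine (MulAut.congr e).injective.comp ?_
  refine (injective_iff_map_eq_one _).2 fun g hg => ?_
  rw [← mem_bot, ← hC, mem_centralizer_iff]
  intro y hy
  have h := congrArg Subtype.val (DFunLike.congr_fun hg (⟨y, hy⟩ : M))
  rw [MulAut.conjNormal_apply, MulAut.one_apply] at h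
  exact (mul_inv_eq_iff_eq_mul.1 h).symm

theorem actHom_coe (M : Subgroup G) [M.Normal] {T : Type*} [Group T] (e : M ≃* T) (x : M) :
    actHom M e x = MulAut.conj (e x) := by
  refine MulEquiv.ext fun z => ?_
  show e (MulAut.conjNormal (x : G) (e.symm z)) = e x * z * (e x)⁻¹
  have h : MulAut.conjNormal (x : G) (e.symm z) = x * e.symm z * x⁻¹ := Subtype.ext (by
    rw [MulAut.conjNormal_apply]; rfl)
  rw [h, map_mul, map_mul, map_inv, e.apply_symm_apply]

theorem map_actHom (M : Subgroup G) [M.Normal] {T : Type*} [Group T] (e : M ≃* T) :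
    M.map (actHom M e) = Cfsg.Inn T := by
  refine le_antisymm ?_ ?_
  · rintro _ ⟨x, hx, rfl⟩
    exact ⟨e ⟨x, hx⟩, (actHom_coe M e ⟨x, hx⟩).symm⟩
  · rintro _ ⟨z, rfl⟩
    obtain ⟨x, rfl⟩ := e.surjective z
    exact ⟨x, x.2, actHom_coe M e x⟩

variable {F : Type} [Field F] [Fintype F]

/-- outer facts -/
theorem out_facts {p f : ℕ} [Fact p.Prime] (hf : 1 ≤ f) (hF : Fintype.card F = p ^ f) (M : Subgroup G)
    [M.Normal] (e : M ≃* Matrix.ProjectiveSpecialLinearGroup (Fin 2) F)
    (hC : centralizer (M : Set G) = ⊥) (hM : Odd M.index) :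
    M.index ∣ f ∧ ∀ r : ℕ, r.Prime → r ∣ M.index → ∃ y : G, y ∉ M ∧ orderOf y = r := by
  classical
  set C := actHom M e with hCdef
  have hCi : Function.Injective C := actHom_injective M e hC
  obtain ⟨θ, hθ⟩ := exists_fieldGraph_hom (n := 2) (F := F) le_rfl
  set ψ : G →* (F ≃+* F) := ((MonoidHom.fst _ _).comp θ).comp C
  have hker : ψ.ker = M := by
    refine le_antisymm (fun x hx => mem_of_sq_mem hM ?_) fun x hx => ?_
    · obtain ⟨g, σ, b, hβ, hb⟩ := exists_mkAut (n := 2) le_rfl (C x)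
      obtain rfl := hb rfl
      have hσ : σ = RingEquiv.refl F := by
        have h := hx
        rw [MonoidHom.mem_ker] at h
        change (θ (C x)).1 = 1 at h
        rw [hβ, hθ g σ false (fun _ => rfl)] at h
        exact h
      subst hσ
      obtain ⟨y, hy, hyx⟩ : C (x * x) ∈ M.map C := by
        rw [map_actHom, map_mul, hβ, mkAut_mul, Bool.false_xor]
        refine (mem_inn_iff (n := 2) le_rfl _ _ _ (fun _ => rfl)).2 ⟨RingEquiv.ext fun _ => rfl, rfl,
          GeneralLinearGroup.det g, ?_⟩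
        have hid : glMap (n := 2) (RingEquiv.refl F) g = g := Units.ext (by ext i j; simp)
        simp [hid, pow_two]
      exact hCi hyx ▸ hy
    · rw [MonoidHom.mem_ker]
      show (θ (C x)).1 = 1
      obtain ⟨g, σ, b, hβ, hb⟩ := exists_mkAut (n := 2) le_rfl (C x)
      obtain ⟨rfl, rfl, -⟩ := (mem_inn_iff (n := 2) le_rfl g σ b hb).1
        (hβ ▸ map_actHom M e ▸ mem_map_of_mem C hx)
      rw [hβ, hθ g _ _ hb]
      rfl
  obtain ⟨hcard, hcyc⟩ := card_ringAut (F := F) hF hf
  refine ⟨?_, fun r hr hd => ?_⟩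
  · rw [← hker, index_ker, ← hcard]
    exact card_subgroup_dvd_card _
  · haveI := Fact.mk hr
    rw [← hker, index_ker] at hd
    haveI : Finite (F ≃+* F) := Finite.of_injective (fun τ => (τ : F → F)) DFunLike.coe_injective
    obtain ⟨σ, hσ⟩ := exists_prime_orderOf_dvd_card' (G := ψ.range) r hd
    obtain ⟨g, hg⟩ := σ.2
    rw [← Subgroup.orderOf_coe, ← hg] at hσ
    set β := fieldHom 2 F (ψ g) with hβdef
    have hβo : orderOf β = r := by rw [orderOf_injective _ (fieldHom_injective le_rfl), hσ]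
    obtain ⟨D, hDc, hDcard, hD⟩ := out_diag (n := 2) (F := F) le_rfl
    -- `β` agrees with `C g` up to a diagonal automorphism
    set π := QuotientGroup.mk' (Cfsg.Inn (PSL 2 F))
    have hδ : (π (C g))⁻¹ * π β ∈ D := by
      obtain ⟨h, τ, b, hk, hb⟩ := exists_mkAut (n := 2) le_rfl ((C g)⁻¹ * β)
      rw [← map_inv, ← map_mul, hk]
      refine (hD h τ b hb).2 ⟨?_, hb rfl⟩
      have h1 : (θ (mkAut h τ b)).1 = (ψ g)⁻¹ * (θ β).1 := by
        rw [← hk, map_mul, map_inv]; rfl
      rw [hθ h τ b hb] at h1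
      have h2 : (θ β).1 = ψ g := by
        rw [hβdef, fieldHom_apply, ← mkAut_false, hθ 1 (ψ g) false (fun _ => rfl)]
      rw [h2, inv_mul_cancel] at h1
      exact h1
    haveI hDn : D.Normal := ⟨fun d hd x => by
      obtain ⟨χ, rfl⟩ := QuotientGroup.mk_surjective x
      obtain ⟨d, rfl⟩ := QuotientGroup.mk_surjective d
      obtain ⟨h, τ, b, rfl, hb⟩ := exists_mkAut (n := 2) le_rfl d
      obtain ⟨h', τ', b', hk, hb'⟩ := exists_mkAut (n := 2) le_rfl (χ * mkAut h τ b * χ⁻¹)
      rw [← QuotientGroup.mk_inv, ← QuotientGroup.mk_mul, ← QuotientGroup.mk_mul, hk]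
      refine (hD h' τ' b' hb').2 ⟨?_, hb' rfl⟩
      have h1 : (θ (mkAut h' τ' b')).1 = (θ χ).1 * (θ (mkAut h τ b)).1 * ((θ χ).1)⁻¹ := by
        rw [← hk, map_mul, map_mul, map_inv]; rfl
      rw [hθ h' τ' b' hb', hθ h τ b hb] at h1
      have h2 : τ = RingEquiv.refl F := ((hD h τ b hb).1 hd).1
      subst h2
      rw [show (RingEquiv.refl F : F ≃+* F) = 1 from rfl, mul_one, mul_inv_cancel] at h1
      exact h1⟩
    have hD2 : Nat.card D ∣ 2 := hDcard ▸ Nat.gcd_dvd_left _ _
    set δ := (π (C g))⁻¹ * π β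
    have hδ2 : δ * δ = 1 := by
      have h := pow_card_eq_one' (x := (⟨δ, hδ⟩ : D))
      obtain ⟨k, hk⟩ := hD2
      have : (⟨δ, hδ⟩ : D) ^ 2 = 1 := (congrArg _ hk).trans ((pow_mul _ _ _).trans (by rw [h, one_pow]))
      rw [pow_two] at this
      exact congrArg Subtype.val this
    have hδc : Commute (π (C g)) δ := by
      by_cases h1 : δ = 1
      · rw [h1]; exact Commute.one_right _
      have hmem := hDn.conj_mem δ hδ (π (C g))
      have h2 : Nat.card D = 2 := ((Nat.dvd_prime Nat.prime_two).1 hD2).resolve_left fun hc => h1 (by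
        rw [card_eq_one] at hc; rwa [hc, mem_bot] at hδ)
      obtain ⟨x, hx1, hx⟩ := (Nat.card_eq_two_iff' (1 : D)).1 h2
      have e1 := hx ⟨δ, hδ⟩ (fun hh => h1 (congrArg Subtype.val hh))
      have e2 := hx ⟨_, hmem⟩ (fun hh => h1 (conj_eq_one_iff.1 (congrArg Subtype.val hh : π (C g) * δ * (π (C g))⁻¹ = 1)))
      exact mul_inv_eq_iff_eq_mul.1 (congrArg Subtype.val (e2.trans e1.symm))
    have hπβ : π β ∈ (π.comp C).range := by
      have hβeq : π β = π (C g) * δ := by simp [δ]
      by_cases hr2 : r = 2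
      · exfalso
        have := hd
        rw [← index_ker, hker, hr2] at this
        exact (Nat.not_even_iff_odd.2 hM) (even_iff_two_dvd.2 this)
      obtain ⟨k, hk⟩ := hr.odd_of_ne_two hr2
      have hpow : π β ^ (2 * (k + 1)) = π β := by
        rw [show 2 * (k + 1) = r + 1 by omega, pow_succ, ← map_pow, ← hβo, pow_orderOf_eq_one, map_one, one_mul]
      refine ⟨g ^ (2 * (k + 1)), ?_⟩
      rw [map_pow, MonoidHom.comp_apply, ← hpow, hβeq, hδc.mul_pow,
        pow_mul δ, pow_two δ, hδ2, one_pow, mul_one]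
    obtain ⟨y₀, hy₀⟩ := hπβ
    have hyM : (C y₀)⁻¹ * β ∈ M.map C := by
      rw [map_actHom]
      exact QuotientGroup.eq.1 hy₀
    obtain ⟨m, hm, hmC⟩ := hyM
    refine ⟨y₀ * m, fun hmem => ?_, ?_⟩
    · rw [← hker, MonoidHom.mem_ker] at hmem
      change (θ (C (y₀ * m))).1 = 1 at hmem
      rw [map_mul C, hmC, mul_inv_cancel_left, hβdef, fieldHom_apply, ← mkAut_false,
        hθ 1 (ψ g) false (fun _ => rfl)] at hmem
      rw [show ψ g = 1 from hmem, orderOf_one] at hσ
      exact hr.ne_one hσ.symm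
    · rw [← orderOf_injective C hCi, map_mul, hmC, mul_inv_cancel_left, hβo]

end CfsgLib.Orders.EqOrder
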