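import Cfsg.Agent.S4023
import Cfsg.Agent.Lib.Core.Cores
import Cfsg.Prelude.Def_Local
import Mathlib.GroupTheory.Transfer

/-!
Owner: helper24. Groups in which `p`-subgroups of the same order are conjugate (S4019, S4021): elementary
facts.
-/

set_option autoImplicit false
set_option linter.all false

namespace CfsgLib.Orders.EqOrder

open Subgroup

variable {G : Type*} [Group G] [Finite G]

/-- any two `p`-subgroups of the same order are conjugate -/
def ConjP (G : Type*) [Group G] : Prop :=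
  ∀ p : ℕ, p.Prime → ∀ H K : Subgroup G, IsPGroup p H → IsPGroup p K → Nat.card H = Nat.card K →
    ∃ g : G, K = H.map (MulAut.conj g).toMonoidHom

/-- any two subgroups of the same order are conjugate -/
def ConjA (G : Type*) [Group G] : Prop :=
  ∀ H K : Subgroup G, Nat.card H = Nat.card K → ∃ g : G, K = H.map (MulAut.conj g).toMonoidHom

theorem ConjA.conjP (h : ConjA G) : ConjP G := fun _ _ H K _ _ e => h H K e

theorem card_comap {N : Subgroup G} [N.Normal] (H : Subgroup (G ⧸ N)) :
    Nat.card ↥(H.comap (QuotientGroup.mk' N)) = Nat.card N * Nat.card H := by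
  set π := QuotientGroup.mk' N
  have h := (H.comap π).card_mul_index
  rw [index_comap_of_surjective _ (QuotientGroup.mk'_surjective N), ← N.card_mul_index,
    N.index_eq_card, ← H.card_mul_index, ← mul_assoc] at h
  exact Nat.eq_of_mul_eq_mul_right (Nat.pos_of_ne_zero H.index_ne_zero_of_finite) h

theorem map_conj_comm {K : Type*} [Group K] (f : G →* K) (A : Subgroup G) (g : G) :
    (A.map (MulAut.conj g).toMonoidHom).map f = (A.map f).map (MulAut.conj (f g)).toMonoidHom := by
  rw [Subgroup.map_map, Subgroup.map_map]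
  congr 1
  ext x
  simp

theorem ConjA.quotient (h : ConjA G) (N : Subgroup G) [N.Normal] : ConjA (G ⧸ N) := by
  intro H K e
  obtain ⟨g, hg⟩ := h (H.comap (QuotientGroup.mk' N)) (K.comap (QuotientGroup.mk' N))
    (by rw [card_comap, card_comap, e])
  refine ⟨QuotientGroup.mk' N g, ?_⟩
  have e1 := congrArg (Subgroup.map (QuotientGroup.mk' N)) hg
  rwa [map_conj_comm, map_comap_eq_self_of_surjective (QuotientGroup.mk'_surjective N),
    map_comap_eq_self_of_surjective (QuotientGroup.mk'_surjective N)] at e1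

/-- a Sylow subgroup of the preimage maps onto a `p`-group -/
theorem exists_lift {p : ℕ} [Fact p.Prime] (N : Subgroup G) [N.Normal] {H : Subgroup (G ⧸ N)}
    (hH : IsPGroup p H) :
    ∃ P : Subgroup G, IsPGroup p P ∧ P.map (QuotientGroup.mk' N) = H ∧
      Nat.card P = p ^ (Nat.card N).factorization p * Nat.card H := by
  set π := QuotientGroup.mk' N
  set A := H.comap π
  obtain ⟨P⟩ : Nonempty (Sylow p A) := inferInstance
  obtain ⟨k, hk⟩ := IsPGroup.iff_card.1 hH
  have hA : Nat.card A = Nat.card N * Nat.card H := card_comap H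
  have hN0 : Nat.card N ≠ 0 := Nat.card_pos.ne'
  have hH0 : Nat.card H ≠ 0 := Nat.card_pos.ne'
  have hP : Nat.card (P : Subgroup A) = p ^ (Nat.card N).factorization p * Nat.card H := by
    rw [P.card_eq_multiplicity, hA, Nat.factorization_mul hN0 hH0, Finsupp.add_apply, pow_add, hk,
      Nat.Prime.factorization_pow Fact.out, Finsupp.single_eq_same]
  refine ⟨(P : Subgroup A).map A.subtype, P.isPGroup'.map _, ?_, ?_⟩
  · set f : A →* H := (π.comp A.subtype).codRestrict H fun x => x.2
    have hf : Function.Surjective f := fun y => by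
      obtain ⟨x, hx⟩ := QuotientGroup.mk'_surjective N (y : G ⧸ N)
      exact ⟨⟨x, show π x ∈ H from hx ▸ y.2⟩, Subtype.ext hx⟩
    let Q := P.mapSurjective hf
    have hQ : (Q : Subgroup H) = ⊤ :=
      (Q.3 (hH.to_subgroup ⊤) le_top).symm
    refine le_antisymm ?_ fun y hy => ?_
    · rw [Subgroup.map_map]
      rintro _ ⟨x, -, rfl⟩
      exact x.2
    · obtain ⟨x, hx, hxy⟩ := (hQ ▸ mem_top (⟨y, hy⟩ : H) : (⟨y, hy⟩ : H) ∈ (Q : Subgroup H))
      exact ⟨x, mem_map_of_mem _ hx, congrArg Subtype.val hxy⟩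
  · rw [Subgroup.card_map_of_injective A.subtype_injective]
    exact hP

theorem ConjP.quotient (h : ConjP G) (N : Subgroup G) [N.Normal] : ConjP (G ⧸ N) := by
  intro p hp H K hH hK e
  haveI := Fact.mk hp
  obtain ⟨P, hP, rfl, cP⟩ := exists_lift N hH
  obtain ⟨Q, hQ, rfl, cQ⟩ := exists_lift N hK
  obtain ⟨g, rfl⟩ := h p hp P Q hP hQ (by rw [cP, cQ, e])
  exact ⟨QuotientGroup.mk' N g, map_conj_comm _ _ _⟩

/-- elements of the same prime order generate conjugate subgroups -/
theorem ConjP.exists_conj (h : ConjP G) {p : ℕ} (hp : p.Prime) {x y : G} (hx : orderOf x = p)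
    (hy : orderOf y = p) : ∃ (g : G) (i : ℤ), g * x ^ i * g⁻¹ = y := by
  haveI := Fact.mk hp
  have hz : ∀ z : G, orderOf z = p → IsPGroup p (zpowers z) := fun z hz =>
    IsPGroup.of_card (n := 1) (by rw [Nat.card_zpowers, hz, pow_one])
  obtain ⟨g, hg⟩ := h p hp _ _ (hz x hx) (hz y hy) (by rw [Nat.card_zpowers, Nat.card_zpowers, hx, hy])
  obtain ⟨w, hw, hwy⟩ : y ∈ (zpowers x).map (MulAut.conj g).toMonoidHom := hg ▸ mem_zpowers y
  obtain ⟨i, rfl⟩ := mem_zpowers_iff.1 hw
  exact ⟨g, i, hwy⟩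

/-- a normal subgroup containing one element of prime order `p` contains all -/
theorem ConjP.mem_normal (h : ConjP G) {p : ℕ} (hp : p.Prime) {N : Subgroup G} [N.Normal] {x y : G}
    (hxN : x ∈ N) (hx : orderOf x = p) (hy : orderOf y = p) : y ∈ N := by
  obtain ⟨g, i, rfl⟩ := h.exists_conj hp hx hy
  exact Normal.conj_mem inferInstance _ (N.zpow_mem hxN i) g

theorem ConjP.involutions (h : ConjP G) {x y : G} (hx : orderOf x = 2) (hy : orderOf y = 2) :
    ∃ g : G, g * x * g⁻¹ = y := by
  obtain ⟨g, i, hgi⟩ := h.exists_conj Nat.prime_two hx hy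
  refine ⟨g, ?_⟩
  rw [← hgi]
  have e : x ^ i = 1 ∨ x ^ i = x := by
    rw [← zpow_mod_orderOf, hx]
    rcases Int.emod_two_eq i with h2 | h2 <;> simp [h2]
  rcases e with e | e
  · exfalso
    rw [← hgi, e, mul_one, mul_inv_cancel, orderOf_one] at hy
    omega
  · rw [e]

/-- an element of the squares of an odd quotient -/
theorem mem_of_sq_mem {N : Subgroup G} [N.Normal] (hN : Odd N.index) {x : G} (hx : x * x ∈ N) : x ∈ N := by
  rw [← QuotientGroup.eq_one_iff] at hx ⊢
  rw [QuotientGroup.mk_mul, ← pow_two] at hx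
  obtain ⟨k, hk⟩ := hN
  have e := pow_card_eq_one' (x := (x : G ⧸ N))
  rw [← N.index_eq_card, hk, pow_succ, pow_mul, hx, one_pow, one_mul] at e
  exact e

/-- a normal subgroup of odd order is trivial -/
theorem eq_bot_of_odd (hO : Cfsg.oddCore G = ⊥) {N : Subgroup G} [N.Normal]
    (hN : Odd (Nat.card N)) : N = ⊥ :=
  le_bot_iff.1 (hO ▸ CfsgLib.Core.le_pPrimeCore
    ((Nat.prime_two.coprime_iff_not_dvd.2 fun h => (Nat.not_even_iff_odd.2 hN) (even_iff_two_dvd.2 h)).symm))

theorem odd_card_of_no_involution (N : Subgroup G) (h : ∀ x ∈ N, orderOf x ≠ 2) : Odd (Nat.card N) := by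
  rw [← Nat.not_even_iff_odd, even_iff_two_dvd]
  intro h2
  haveI : Fact (Nat.Prime 2) := ⟨Nat.prime_two⟩
  obtain ⟨x, hx⟩ := exists_prime_orderOf_dvd_card' (G := N) 2 h2
  exact h _ x.2 ((Subgroup.orderOf_coe x).trans hx)

end CfsgLib.Orders.EqOrder
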