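import Cfsg.Agent.Lib.Orders.EqualOrder.Basic
import Cfsg.Agent.Lib.LocalEven.GoldS.PSLFacts
import Cfsg.Agent.Lib.TwoFusion.AbelianPSL.PSL
import Mathlib.GroupTheory.FixedPointFree

/-!
Owner: helper24. S4019/S4021: facts on `PSL(2, q)`: Sylow normalisers in the defining characteristic and a
torus element inverted inside an involution centralizer.
-/

set_option autoImplicit false
set_option linter.all false

namespace CfsgLib.Orders.EqOrder

open Subgroup Matrix CfsgLib.PLocal.SLTwo CfsgLib.LocalEven.GoldS CfsgLib.LocalEven.GoldS.PSLF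

variable {F : Type*} [Field F]

theorem isSolvable_Bs : Group.IsSolvable (Bs F) := by
  have hcomm : commutator (Bs F) ≤ (Us F).subgroupOf (Bs F) := by
    rw [_root_.commutator_def, commutator_le]
    rintro ⟨x, a, rfl, ha⟩ - ⟨y, b, rfl, hb⟩ -
    rw [mem_subgroupOf]
    show mk a * mk b * (mk a)⁻¹ * (mk b)⁻¹ ∈ Us F
    rw [← map_inv, ← map_inv, ← map_mul, ← map_mul, ← map_mul]
    have da := det2 a
    have db := det2 b
    rw [ha, mul_zero, sub_zero] at da
    rw [hb, mul_zero, sub_zero] at db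
    have h10 : (a * b * a⁻¹ * b⁻¹).1 1 0 = 0 := by simp [m00, m01, m10, m11, i00, i01, i10, i11, ha, hb]
    have h00 : (a * b * a⁻¹ * b⁻¹).1 0 0 = 1 := by
      simp [m00, m01, m10, m11, i00, i01, i10, i11, ha, hb]
      linear_combination db + (b.1 0 0 * b.1 1 1) * da
    have h11 : (a * b * a⁻¹ * b⁻¹).1 1 1 = 1 := by
      simp [m00, m01, m10, m11, i00, i01, i10, i11, ha, hb]
      linear_combination db + (b.1 0 0 * b.1 1 1) * da
    rcases eq_U_of_upper h10 (h11.trans h00.symm) with e | e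
    · exact ⟨_, (congrArg mk e).symm⟩
    · exact ⟨-((a * b * a⁻¹ * b⁻¹).1 0 1), ((congrArg mk e).trans (mk_neg _)).symm⟩
  haveI : Group.IsSolvable (commutator (Bs F)) := Group.isSolvable_of_comm fun p q =>
    Subtype.ext (Subtype.ext (Us_comm (mem_subgroupOf.1 (hcomm p.2)) (mem_subgroupOf.1 (hcomm q.2))))
  haveI : Group.IsSolvable (Bs F ⧸ commutator (Bs F)) :=
    Group.isSolvable_of_comm fun p q => (inferInstance : CommGroup (Abelianization (Bs F))).mul_comm p q
  exact (Group.isSolvable_iff_subgroup_quotient (commutator (Bs F))).2 ⟨inferInstance, inferInstance⟩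

theorem normalizer_Us_le (h4 : (4 : F) ≠ 0) :
    normalizer ((Us F : Subgroup (P2 F)) : Set (P2 F)) ≤ Bs F := by
  intro x hx
  obtain ⟨y, rfl⟩ := mk_surjective x
  obtain ⟨s, hs⟩ := (mem_normalizer_iff.1 hx (u 1)).1 (u_mem 1)
  have e : PSLF.mk (y * U 1 * y⁻¹) = PSLF.mk (U s) := by
    rw [map_mul, map_mul, map_inv]
    exact hs.symm
  refine ⟨y, rfl, ?_⟩
  rcases mk_eq_mk.1 e with e' | e'
  · have e1 := congrArg (fun z : S2 F => z.1 1 0) e'
    simp [m00, m01, m10, m11, i00, i01, i10, i11] at e1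
    exact pow_eq_zero_iff two_ne_zero |>.1 (show y.1 1 0 ^ 2 = 0 by linear_combination e1)
  · exfalso
    have e1 := congrArg tr e'
    rw [show tr (-(y * U 1 * y⁻¹)) = -tr (y * U 1 * y⁻¹) by simp [tr]; ring, tr_conj] at e1
    simp [tr] at e1
    exact h4 (by linear_combination e1)

variable [Fintype F]

theorem four_ne_zero_of_odd (hodd : Odd (Fintype.card F)) : (4 : F) ≠ 0 := by
  have h2 : (2 : F) ≠ 0 := by
    intro h
    have hc : ringChar F = 2 := CharP.ringChar_of_prime_eq_zero Nat.prime_two (by exact_mod_cast h)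
    have := FiniteField.even_card_of_char_two hc
    have := Nat.odd_iff.1 hodd
    omega
  intro h
  exact h2 (pow_eq_zero_iff two_ne_zero |>.1 (show (2 : F) ^ 2 = 0 by linear_combination h))

/-- the root group is a Sylow subgroup and has a solvable normaliser -/
theorem sylow_char {p f : ℕ} [Fact p.Prime] (hp : p ≠ 2) (hF : Fintype.card F = p ^ f)
    {K : Type*} [Group K] [Finite K] (e : K ≃* P2 F) (P : Sylow p K) :
    Nat.card (P : Subgroup K) = p ^ f ∧ IsMulCommutative (P : Subgroup K) ∧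
      (∀ x ∈ (P : Subgroup K), x ^ p = 1) ∧
      Group.IsSolvable ↥(normalizer ((P : Subgroup K) : Set K)) := by
  classical
  have hodd : Odd (Fintype.card F) := hF ▸ ((Fact.out : p.Prime).odd_of_ne_two hp).pow
  have hU : Nat.card (Us F) = p ^ f := by rw [card_Us, hF]
  have hcard := CfsgLib.Classical.Two.card_PSL_two (F := F)
  rw [show Nat.gcd 2 (Fintype.card F - 1) = 2 from
    Nat.gcd_eq_left (even_iff_two_dvd.1 (Nat.Odd.sub_odd hodd odd_one))] at hcard
  have hidx : ¬ p ∣ (Us F).index := by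
    intro hd
    have h1 := (Us F).card_mul_index
    rw [card_Us] at h1
    rw [← h1] at hcard
    have hq1 : 1 ≤ Fintype.card F := Fintype.card_pos
    have h2 : 2 * (Us F).index = Fintype.card F ^ 2 - 1 :=
      Nat.eq_of_mul_eq_mul_left hq1 (by rw [← hcard]; ring)
    have hd2 : p ∣ Fintype.card F ^ 2 - 1 := h2 ▸ Dvd.dvd.mul_left hd 2
    rcases Nat.eq_zero_or_pos f with hf0 | hf0
    · rw [hF, hf0, pow_zero] at h2
      simp at h2
      exact (Us F).index_ne_zero_of_finite h2
    · have hq : p ∣ Fintype.card F ^ 2 := hF ▸ dvd_pow (dvd_pow_self p hf0.ne') two_ne_zero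
      have := Nat.dvd_sub hq hd2
      rw [Nat.sub_sub_self (Nat.one_le_pow _ _ hq1)] at this
      exact (Fact.out : p.Prime).one_lt.ne' (Nat.dvd_one.1 this)
  have hUp : IsPGroup p (Us F) := IsPGroup.of_card hU
  let Q : Sylow p (P2 F) := hUp.toSylow hidx
  let P' : Sylow p (P2 F) := P.mapSurjective (f := e.toMonoidHom) e.surjective
  obtain ⟨g, hg⟩ := MulAction.exists_smul_eq (P2 F) Q P'
  let ε : K ≃* P2 F := e.trans (MulAut.conj g⁻¹)
  have hPU : (P : Subgroup K).map ε.toMonoidHom = Us F := by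
    have h1 : (P' : Subgroup (P2 F)) = (Us F).map (MulAut.conj g).toMonoidHom := by rw [← hg]; rfl
    have h2 : (P' : Subgroup (P2 F)) = (P : Subgroup K).map e.toMonoidHom := rfl
    rw [show ε.toMonoidHom = (MulAut.conj g⁻¹).toMonoidHom.comp e.toMonoidHom from rfl,
      ← Subgroup.map_map, ← h2, h1, Subgroup.map_map]
    refine (congrArg (fun φ => (Us F).map φ) ?_).trans (Subgroup.map_id _)
    ext z
    simp
  have hmem : ∀ x, x ∈ (P : Subgroup K) ↔ ε x ∈ Us F := fun x => by
    rw [← hPU]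
    exact (mem_map_equiv (f := ε) (K := (P : Subgroup K)) (x := ε x)).trans (by simp) |>.symm
  have hcharP : CharP F p := by
    obtain ⟨p', hc⟩ := CharP.exists F
    haveI := hc
    obtain ⟨k, hp', hq⟩ := FiniteField.card F p'
    have : p = p' := by
      rcases Nat.eq_zero_or_pos f with hf0 | hf0
      · rw [hF, hf0, pow_zero] at hq
        exact absurd hq.symm (Nat.one_lt_pow k.ne_zero hp'.one_lt).ne'
      · exact (Nat.prime_dvd_prime_iff_eq Fact.out hp').1
          ((Fact.out : p.Prime).dvd_of_dvd_pow (hq ▸ hF ▸ dvd_pow_self p hf0.ne'))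
    exact this ▸ hc
  refine ⟨?_, ⟨⟨fun a b => Subtype.ext (ε.injective ?_)⟩⟩, fun x hx => ε.injective ?_, ?_⟩
  · rw [← hU, ← hPU, card_map_of_injective ε.injective]
  · rw [Subgroup.coe_mul, Subgroup.coe_mul, map_mul, map_mul]
    exact Us_comm ((hmem _).1 a.2) ((hmem _).1 b.2)
  · obtain ⟨t, ht⟩ := (hmem x).1 hx
    rw [map_pow, map_one, ← ht]
    have hpow : ∀ n : ℕ, (u t : P2 F) ^ n = u (n * t) := by
      intro n
      induction n with
      | zero => simp [u_zero]
      | succ n ih => rw [pow_succ, ih, u_mul]; congr 1; push_cast; ring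
    rw [hpow, CharP.cast_eq_zero, zero_mul, u_zero]
  · haveI := isSolvable_Bs (F := F)
    have hle : (normalizer ((P : Subgroup K) : Set K)).map ε.toMonoidHom ≤ Bs F := by
      refine le_trans ?_ (normalizer_Us_le (four_ne_zero_of_odd hodd))
      rw [← hPU]
      exact le_normalizer_map _
    exact Group.isSolvable_of_isSolvable_injective
      (f := (ε.toMonoidHom.comp (normalizer ((P : Subgroup K) : Set K)).subtype).codRestrict (Bs F)
        fun x => hle ⟨x, x.2, rfl⟩)
      fun a b hab => Subtype.ext (ε.injective (congrArg Subtype.val hab))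

/-- some involution centralises an element of odd order inverted by another involution -/
def HasTorus (K : Type*) [Group K] : Prop :=
  ∃ t s x : K, orderOf t = 2 ∧ orderOf s = 2 ∧ Odd (orderOf x) ∧ x ≠ 1 ∧ t * x = x * t ∧ s * x * s⁻¹ = x⁻¹

theorem HasTorus.of_injective {K L : Type*} [Group K] [Group L] (h : HasTorus K) (f : K →* L)
    (hf : Function.Injective f) : HasTorus L := by
  obtain ⟨t, s, x, ht, hs, hx, hx1, htx, hsx⟩ := h
  refine ⟨f t, f s, f x, ?_, ?_, ?_, fun e => hx1 (hf (e.trans (map_one f).symm)), ?_, ?_⟩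
  · rw [orderOf_injective f hf, ht]
  · rw [orderOf_injective f hf, hs]
  · rwa [orderOf_injective f hf]
  · rw [← map_mul, htx, map_mul]
  · rw [← map_inv, ← map_mul, ← map_mul, hsx, map_inv]

theorem hasTorus_psl {K : Type*} [Group K] [Finite K] (e : K ≃* P2 F)
    (h8 : Fintype.card F % 8 = 3 ∨ Fintype.card F % 8 = 5) (h5 : 5 < Fintype.card F) : HasTorus K := by
  classical
  haveI : Fact (Nat.Prime 2) := ⟨Nat.prime_two⟩
  suffices h : HasTorus (P2 F) from h.of_injective e.symm.toMonoidHom e.symm.injective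
  have hodd : Odd (Fintype.card F) := by rw [Nat.odd_iff]; omega
  have h2 : (2 : F) ≠ 0 := fun h => four_ne_zero_of_odd hodd (by linear_combination (2 : F) * h)
  obtain ⟨t, s, ht, hs, hne, hcomm⟩ := CfsgLib.AbelianPSL.exists_four (F := F) h2
  have hfact : (Nat.card (P2 F)).factorization 2 = 2 := CfsgLib.AbelianPSL.factorization_two h8 (by
    have hc := CfsgLib.Classical.Two.card_PSL_two (F := F)
    rwa [show Nat.gcd 2 (Fintype.card F - 1) = 2 from Nat.gcd_eq_left (by omega)] at hc)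
  set C := centralizer ({t} : Set (P2 F))
  have hcardC : 4 < Nat.card C := by
    obtain ⟨ε, hε, -, -, hc⟩ := CfsgLib.GW.Dne.PSLAut.card_centralizer_involution h2 ht
    replace hc : (Nat.card C : ℤ) = Fintype.card F - ε := hc
    rcases hε with rfl | rfl <;> omega
  -- an element of odd prime order in the centralizer
  obtain ⟨r, hr, hr2, hrd⟩ : ∃ r : ℕ, r.Prime ∧ r ≠ 2 ∧ r ∣ Nat.card C := by
    by_contra hno
    push Not at hno
    have hCp : Nat.card C = 2 ^ (Nat.card C).primeFactorsList.length :=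
      Nat.eq_prime_pow_of_unique_prime_dvd Nat.card_pos.ne' fun {q} hq hd => by
        by_contra hne
        exact hno q hq hne hd
    have hle : (Nat.card C).primeFactorsList.length ≤ 2 :=
      le_of_le_of_eq ((Nat.Prime.pow_dvd_iff_le_factorization Nat.prime_two Nat.card_pos.ne').1
        (hCp ▸ card_subgroup_dvd_card C)) hfact
    have := Nat.pow_le_pow_right (show 0 < 2 by norm_num) hle
    omega
  haveI := Fact.mk hr
  obtain ⟨⟨x, hxC⟩, hx⟩ := exists_prime_orderOf_dvd_card' (G := C) r hrd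
  rw [Subgroup.orderOf_mk] at hx
  have hxt : t * x = x * t := (mem_centralizer_singleton_iff.1 hxC).symm
  have hxodd : Odd (orderOf x) := hx ▸ hr.odd_of_ne_two hr2
  have hx1 : x ≠ 1 := fun e => by rw [e, orderOf_one] at hx; exact hr.ne_one hx.symm
  have hxx : x * x ≠ 1 := fun e => by
    have := orderOf_dvd_of_pow_eq_one (x := x) (n := 2) (by rw [pow_two, e])
    rw [hx] at this
    exact hr2 ((Nat.prime_dvd_prime_iff_eq hr Nat.prime_two).1 this)
  have hss : s * s = 1 := by rw [← pow_two]; exact orderOf_dvd_iff_pow_eq_one.1 hs.dvd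
  have hsinv : s⁻¹ = s := inv_eq_of_mul_eq_one_right hss
  have hts : t * s = s * t := hcomm
  have hsC : s ∈ C := mem_centralizer_singleton_iff.2 hts.symm
  have htC : t ∈ C := mem_centralizer_singleton_iff.2 rfl
  -- a Sylow subgroup of the centralizer and its normal complement
  have ht' : orderOf (⟨t, htC⟩ : C) = 2 := (Subgroup.orderOf_mk _ _).trans ht
  have hs' : orderOf (⟨s, hsC⟩ : C) = 2 := (Subgroup.orderOf_mk _ _).trans hs
  have hcomm' : Commute (⟨t, htC⟩ : C) ⟨s, hsC⟩ := Subtype.ext hts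
  have hV2 : IsPGroup 2 (zpowers (⟨t, htC⟩ : C) ⊔ zpowers (⟨s, hsC⟩ : C) : Subgroup C) :=
    (IsPGroup.of_card (n := 1) (by rw [Nat.card_zpowers, ht', pow_one])).to_sup_of_normal_right'
      (IsPGroup.of_card (n := 1) (by rw [Nat.card_zpowers, hs', pow_one]))
      (zpowers_le.2 (mem_normalizer_iff.2 fun z => by
        constructor
        · rintro ⟨k, rfl⟩
          exact ⟨k, (mul_inv_eq_iff_eq_mul.2 (hcomm'.zpow_right k).eq).symm⟩
        · rintro ⟨k, hk⟩
          refine ⟨k, ?_⟩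
          have h3 : (⟨t, htC⟩ : C) * ((⟨s, hsC⟩ : C) ^ k) * (⟨t, htC⟩ : C)⁻¹ = (⟨s, hsC⟩ : C) ^ k :=
            mul_inv_eq_iff_eq_mul.2 (hcomm'.zpow_right k).eq
          refine mul_left_cancel (a := (⟨t, htC⟩ : C)) (mul_right_cancel (b := (⟨t, htC⟩ : C)⁻¹) ?_)
          exact h3.trans hk))
  obtain ⟨V, hVle⟩ := hV2.exists_le_sylow
  have htV : (⟨t, htC⟩ : C) ∈ (V : Subgroup C) := hVle (mem_sup_left (mem_zpowers _))
  have hsV : (⟨s, hsC⟩ : C) ∈ (V : Subgroup C) := hVle (mem_sup_right (mem_zpowers _))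
  obtain ⟨k, hk⟩ := IsPGroup.iff_card.1 V.isPGroup'
  have hk2 : k ≤ 2 := by
    refine le_of_le_of_eq ((Nat.Prime.pow_dvd_iff_le_factorization Nat.prime_two Nat.card_pos.ne').1 ?_) hfact
    rw [← hk]
    exact (card_subgroup_dvd_card _).trans (card_subgroup_dvd_card C)
  have htcen : ∀ y : C, (⟨t, htC⟩ : C) * y = y * ⟨t, htC⟩ := fun y =>
    Subtype.ext (mem_centralizer_singleton_iff.1 y.2).symm
  have hV4 : ∀ v ∈ (V : Subgroup C), v = 1 ∨ v = ⟨t, htC⟩ ∨ v = ⟨s, hsC⟩ ∨ v = ⟨t, htC⟩ * ⟨s, hsC⟩ := by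
    intro v hv
    by_contra hno
    push Not at hno
    haveI : Fintype C := Fintype.ofFinite _
    have hne1 : (⟨t, htC⟩ : C) ≠ 1 := fun e => by rw [e, orderOf_one] at ht'; omega
    have hne2 : (⟨s, hsC⟩ : C) ≠ 1 := fun e => by rw [e, orderOf_one] at hs'; omega
    have hne3 : (⟨t, htC⟩ : C) ≠ ⟨s, hsC⟩ := fun e => hne (congrArg Subtype.val e)
    have htt : (⟨t, htC⟩ : C) * ⟨t, htC⟩ = 1 := by
      rw [← pow_two]; exact orderOf_dvd_iff_pow_eq_one.1 ht'.dvd
    have hne4 : (⟨t, htC⟩ : C) * ⟨s, hsC⟩ ≠ 1 := fun e =>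
      hne3 (mul_left_cancel (e.trans htt.symm)).symm
    have hne5 : (⟨t, htC⟩ : C) * ⟨s, hsC⟩ ≠ ⟨t, htC⟩ := fun e => hne2 (mul_eq_left.1 e)
    have hne6 : (⟨t, htC⟩ : C) * ⟨s, hsC⟩ ≠ ⟨s, hsC⟩ := fun e => hne1 (mul_eq_right.1 e)
    have hsub : ({1, ⟨t, htC⟩, ⟨s, hsC⟩, ⟨t, htC⟩ * ⟨s, hsC⟩, v} : Finset C) ⊆
        Finset.univ.filter (fun z => z ∈ (V : Subgroup C)) := by
      intro z hz
      simp only [Finset.mem_insert, Finset.mem_singleton] at hz
      rcases hz with rfl | rfl | rfl | rfl | rfl <;>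
        simp only [Finset.mem_filter, Finset.mem_univ, true_and] <;>
        first | exact one_mem _ | exact mul_mem htV hsV | assumption
    have h5' := Finset.card_le_card hsub
    rw [← Fintype.card_subtype, ← Nat.card_eq_fintype_card, show Nat.card {z : C // z ∈ (V : Subgroup C)} = 2 ^ k from hk] at h5'
    have h5c : ({1, ⟨t, htC⟩, ⟨s, hsC⟩, ⟨t, htC⟩ * ⟨s, hsC⟩, v} : Finset C).card = 5 := by
      obtain ⟨n1, n2, n3, n4⟩ := hno
      rw [Finset.card_insert_of_notMem, Finset.card_insert_of_notMem, Finset.card_insert_of_notMem,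
        Finset.card_insert_of_notMem, Finset.card_singleton]
      · rw [Finset.mem_singleton]; exact n4.symm
      · rw [Finset.mem_insert, Finset.mem_singleton]; push Not; exact ⟨hne6.symm, n3.symm⟩
      · simp only [Finset.mem_insert, Finset.mem_singleton]; push Not; exact ⟨hne3, hne5.symm, n2.symm⟩
      · simp only [Finset.mem_insert, Finset.mem_singleton]; push Not
        exact ⟨hne1.symm, hne2.symm, hne4.symm, n1.symm⟩
    have := Nat.pow_le_pow_right (show 0 < 2 by norm_num) hk2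
    omega
  have hcomm2 : ∀ a ∈ (V : Subgroup C), ∀ b ∈ (V : Subgroup C), a * b = b * a := by
    intro a ha b hb
    rcases hV4 a ha with rfl | rfl | rfl | rfl <;> rcases hV4 b hb with rfl | rfl | rfl | rfl <;>
      first
      | rfl
      | simp only [one_mul, mul_one]
      | exact htcen _
      | exact (htcen _).symm
      | (rw [← mul_assoc, ← htcen ⟨s, hsC⟩, mul_assoc])
      | (rw [mul_assoc, ← mul_assoc ⟨s, hsC⟩, ← htcen ⟨s, hsC⟩, mul_assoc, ← mul_assoc])
  have hcen : normalizer ((V : Subgroup C) : Set C) ≤ centralizer ((V : Subgroup C) : Set C) := by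
    intro g hg
    rw [mem_centralizer_iff]
    set N := normalizer ((V : Subgroup C) : Set C)
    -- conjugation has `2`-power order on the Sylow subgroup
    have hgs : g * ⟨s, hsC⟩ * g⁻¹ = (⟨s, hsC⟩ : C) ∨ g * ⟨s, hsC⟩ * g⁻¹ = ⟨t, htC⟩ * ⟨s, hsC⟩ := by
      rcases hV4 _ ((mem_normalizer_iff.1 hg _).1 hsV) with e | e | e | e
      · exfalso
        rw [conj_eq_one_iff] at e
        rw [e, orderOf_one] at hs'; omega
      · exfalso
        refine hne (congrArg Subtype.val ?_ : ((⟨t, htC⟩ : C) : P2 F) = ((⟨s, hsC⟩ : C) : P2 F))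
        rw [← mul_right_inj g, ← mul_left_inj g⁻¹, e, ← htcen g, mul_inv_cancel_right]
      · exact Or.inl e
      · exact Or.inr e
    have hgg : g * g * ⟨s, hsC⟩ * (g * g)⁻¹ = (⟨s, hsC⟩ : C) := by
      rcases hgs with e | e
      · calc g * g * ⟨s, hsC⟩ * (g * g)⁻¹ = g * (g * ⟨s, hsC⟩ * g⁻¹) * g⁻¹ := by group
          _ = _ := by rw [e, e]
      · have htt : (⟨t, htC⟩ : C) * ⟨t, htC⟩ = 1 := by
          rw [← pow_two]; exact orderOf_dvd_iff_pow_eq_one.1 ht'.dvd
        calc g * g * ⟨s, hsC⟩ * (g * g)⁻¹ = g * (g * ⟨s, hsC⟩ * g⁻¹) * g⁻¹ := by group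
          _ = g * (⟨t, htC⟩ * ⟨s, hsC⟩) * g⁻¹ := by rw [e]
          _ = (g * ⟨t, htC⟩ * g⁻¹) * (g * ⟨s, hsC⟩ * g⁻¹) := by group
          _ = _ := by rw [← htcen g, mul_inv_cancel_right, e, ← mul_assoc, htt, one_mul]
    have hfix : g * ⟨s, hsC⟩ * g⁻¹ = (⟨s, hsC⟩ : C) := by
      haveI hVn : ((V : Subgroup C).subgroupOf N).Normal := normal_in_normalizer
      set A := (centralizer ({(⟨s, hsC⟩ : C)} : Set C)).subgroupOf N
      have hA : (V : Subgroup C).subgroupOf N ≤ A := fun z hz =>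
        mem_subgroupOf.2 (mem_centralizer_singleton_iff.2 (hcomm2 _ (mem_subgroupOf.1 hz) _ hsV))
      have hodd' : Odd ((V : Subgroup C).subgroupOf N).index := by
        rw [← Nat.not_even_iff_odd, even_iff_two_dvd]
        exact fun h => V.not_dvd_index (h.trans (relIndex_dvd_index_of_le le_normalizer))
      obtain ⟨j, hj⟩ := hodd'
      have h1 : (⟨g, hg⟩ : N) ^ (2 * j + 1) ∈ A := hA (by
        rw [← hj, ← QuotientGroup.eq_one_iff, QuotientGroup.mk_pow, index_eq_card]
        exact pow_card_eq_one')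
      have h2' : (⟨g, hg⟩ : N) ^ 2 ∈ A := mem_subgroupOf.2 (by
        rw [pow_two]
        exact mem_centralizer_singleton_iff.2 (mul_inv_eq_iff_eq_mul.1 hgg))
      have h3 : (⟨g, hg⟩ : N) ∈ A := by
        have := A.mul_mem (A.inv_mem (pow_mem h2' j)) h1
        rwa [← pow_mul, pow_succ, inv_mul_cancel_left] at this
      exact mul_inv_eq_iff_eq_mul.2 (mem_centralizer_singleton_iff.1 (mem_subgroupOf.1 h3))
    intro v hv
    rcases hV4 v hv with rfl | rfl | rfl | rfl
    · rw [one_mul, mul_one]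
    · exact htcen g
    · exact (mul_inv_eq_iff_eq_mul.1 hfix).symm
    · rw [mul_assoc, ← (mul_inv_eq_iff_eq_mul.1 hfix), ← mul_assoc, htcen g, mul_assoc]
  set O := (MonoidHom.transferSylow V hcen).ker
  have hOodd : Odd (Nat.card O) := by
    rw [← Nat.not_even_iff_odd, even_iff_two_dvd]
    exact MonoidHom.not_dvd_card_ker_transferSylow V hcen
  have hxO : (⟨x, hxC⟩ : C) ∈ O := by
    rw [MonoidHom.mem_ker, ← orderOf_eq_one_iff]
    have h1 := orderOf_map_dvd (MonoidHom.transferSylow V hcen) (⟨x, hxC⟩ : C)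
    replace h1 : orderOf (MonoidHom.transferSylow V hcen (⟨x, hxC⟩ : C)) ∣ r :=
      h1.trans (dvd_of_eq ((Subgroup.orderOf_mk x hxC).trans hx))
    have h2' := orderOf_dvd_natCard (MonoidHom.transferSylow V hcen ⟨x, hxC⟩)
    rw [hk] at h2'
    rcases (Nat.dvd_prime hr).1 h1 with e | e
    · exact e
    · rw [e] at h2'
      exact absurd ((Nat.prime_dvd_prime_iff_eq hr Nat.prime_two).1 (hr.dvd_of_dvd_pow h2')) hr2
  let φ : O →* O := (MulAut.conjNormal (⟨s, hsC⟩ : C) : MulAut O).toMonoidHom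
  have hφapp : ∀ y : O, ((φ y : O) : P2 F) = s * ((y : C) : P2 F) * s⁻¹ := fun y => by
    show (((MulAut.conjNormal (⟨s, hsC⟩ : C)) y : O) : P2 F) = _
    rw [MulAut.conjNormal_apply]; rfl
  have hfpf : MonoidHom.FixedPointFree φ := by
    intro y hy
    by_contra hy1
    have hyo : Odd (orderOf y) := Odd.of_dvd_nat hOodd (orderOf_dvd_natCard y)
    have e : s * ((y : C) : P2 F) * s⁻¹ = ((y : C) : P2 F) := by rw [← hφapp, hy]
    refine hne (CfsgLib.AbelianPSL.unique_involution h2 _ t s ?_ ht hs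
      (mem_centralizer_singleton_iff.1 (y : C).2) (mul_inv_eq_iff_eq_mul.1 e).symm)
    intro hyy
    have h2y : orderOf y ∣ 2 := orderOf_dvd_of_pow_eq_one (by
      rw [pow_two]; exact Subtype.ext (Subtype.ext hyy))
    rcases (Nat.dvd_prime Nat.prime_two).1 h2y with e1 | e1
    · exact hy1 (orderOf_eq_one_iff.1 e1)
    · rw [e1] at hyo; exact absurd hyo (by decide)
  have hinv : Function.Involutive φ := fun y => Subtype.ext (Subtype.ext (by
    rw [hφapp, hφapp, hsinv]
    calc s * (s * ((y : C) : P2 F) * s) * s = (s * s) * ((y : C) : P2 F) * (s * s) := by group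
      _ = _ := by rw [hss, one_mul, mul_one]))
  have hx' := congrFun (hfpf.coe_eq_inv_of_involutive hinv) ⟨⟨x, hxC⟩, hxO⟩
  refine ⟨t, s, x, ht, hs, hxodd, hx1, hxt, ?_⟩
  have := congrArg (fun y : O => ((y : C) : P2 F)) hx'
  rw [hφapp] at this
  exact this

end CfsgLib.Orders.EqOrder
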