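import Cfsg.Agent.Lib.Orders.EqualOrder.AutPart
import Cfsg.Agent.Lib.Orders.EqualOrder.PSLTwo
import Cfsg.Agent.Lib.LocalEven.GoldS.CharFinal
import Cfsg.Agent.Lib.LocalEven.GoldS.SylowThree
import Cfsg.Agent.S4273
import Cfsg.Agent.Lib.Recog.JankoOneAut
import Cfsg.Agent.Lib.Recog.JankoOneSimple

/-!
Owner: helper24. S4019/S4021: the Ree type and Janko socles.
-/

set_option autoImplicit false
set_option linter.all false

namespace CfsgLib.Orders.EqOrder

open Subgroup CfsgLib.LocalEven.GoldS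

universe u
variable {G : Type u} [Group G] [Finite G]

theorem root_not_real {F : Type*} [Field F] [Fintype F] [CharP F 3] (c : Ctx G F) {x u' : G}
    (hu : u' ∈ c.U) (hu1 : u' ≠ 1) : x * u' * x⁻¹ ≠ u'⁻¹ := by
  classical
  haveI : Fact (Nat.Prime 2) := ⟨Nat.prime_two⟩
  intro hx
  set C := centralizer ({u'} : Set G)
  have htC : c.t ∈ C := c.t_mem_centralizer hu
  obtain ⟨u0, hu0, rfl⟩ := hu
  have hu01 : u0 ≠ 1 := fun e => hu1 (by rw [e, map_one])
  obtain ⟨T, rfl⟩ := PSLF.mem_Us.1 hu0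
  have hT : T ≠ 0 := fun e => hu01 (by rw [e, PSLF.u_zero])
  -- the Sylow subgroup of `C` containing `t` has order two
  have hQ : ∀ Q : Sylow 2 C, (⟨c.t, htC⟩ : C) ∈ (Q : Subgroup C) → ∀ q ∈ (Q : Subgroup C), q = 1 ∨ q = ⟨c.t, htC⟩ := by
    intro Q htQ q hq
    obtain ⟨S, hS⟩ := (Q.isPGroup'.map C.subtype).exists_le_sylow
    have hab := c.sylow_comm S
    have hcomm : (q : G) * c.t = c.t * q := congrArg Subtype.val
      (hab.is_comm.comm (⟨q, hS ⟨q, hq, rfl⟩⟩ : (S : Subgroup G)) ⟨c.t, hS ⟨_, htQ, rfl⟩⟩)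
    obtain ⟨n, hn⟩ := Q.isPGroup' ⟨q, hq⟩
    have hqn : (q : G) ^ 2 ^ n = 1 := congrArg (fun z : (Q : Subgroup C) => ((z : C) : G)) hn
    obtain ⟨k, hk⟩ := c.decomp (c.mem_Ct.2 hcomm)
    have hqu : (q : G) * c.ι (PSLF.u T) = c.ι (PSLF.u T) * q := mem_centralizer_singleton_iff.1 q.2
    have hku : k * PSLF.u T = PSLF.u T * k := by
      apply c.inj
      rcases hk with hk | hk <;> rw [hk] at hqu
      · rw [map_mul, map_mul, hqu]
      · rw [map_mul, map_mul]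
        refine mul_left_cancel (a := c.t) ?_
        rw [← mul_assoc, hqu, ← mul_assoc, c.ι_comm, mul_assoc]
    obtain ⟨s, hs⟩ := PSLF.mem_Us.1 (PSLF.centralizer_u hT hku)
    have hk3 : k ^ 3 = 1 := PSLF.Us_cube (hs ▸ PSLF.u_mem s)
    have hkn : k ^ 2 ^ n = 1 := by
      rcases hk with hk | hk <;> rw [hk] at hqn
      · exact c.inj (by rw [map_pow, hqn, map_one])
      · rcases n with _ | n
        · rw [pow_zero, pow_one] at hqn
          refine absurd ⟨k⁻¹, ?_⟩ c.tnot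
          rw [map_inv]; exact (eq_inv_of_mul_eq_one_left hqn).symm
        · rw [(show Commute c.t (c.ι k) from (c.ι_comm k).symm).mul_pow, pow_succ', pow_mul c.t,
            pow_two c.t, c.t_sq, one_pow, one_mul, ← map_pow, ← pow_succ'] at hqn
          exact c.inj (hqn.trans (map_one c.ι).symm)
    have hk1 : k = 1 := by
      rw [← orderOf_eq_one_iff]
      exact Nat.eq_one_of_dvd_coprimes (a := 3) (b := 2 ^ n) ((by norm_num : Nat.Coprime 3 2).pow_right n)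
        (orderOf_dvd_of_pow_eq_one hk3) (orderOf_dvd_of_pow_eq_one hkn)
    rw [hk1, map_one, mul_one] at hk
    exact hk.imp (fun h => Subtype.ext h) fun h => Subtype.ext h
  -- adjust `x`
  have hxt : x * c.t * x⁻¹ ∈ C := by
    have htu : c.t * c.ι (PSLF.u T) = c.ι (PSLF.u T) * c.t := (c.ι_comm _).symm
    refine mem_centralizer_singleton_iff.2 ?_
    have h1 : x * (c.ι (PSLF.u T))⁻¹ * x⁻¹ = c.ι (PSLF.u T) := by
      rw [← conj_inv, hx, inv_inv]
    nth_rewrite 1 [← h1]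
    nth_rewrite 2 [← h1]
    have h2 : c.t * (c.ι (PSLF.u T))⁻¹ = (c.ι (PSLF.u T))⁻¹ * c.t :=
      (show Commute c.t (c.ι (PSLF.u T)) from htu).inv_right.eq
    calc x * c.t * x⁻¹ * (x * (c.ι (PSLF.u T))⁻¹ * x⁻¹) = x * (c.t * (c.ι (PSLF.u T))⁻¹) * x⁻¹ := by group
      _ = x * ((c.ι (PSLF.u T))⁻¹ * c.t) * x⁻¹ := by rw [h2]
      _ = _ := by group
  obtain ⟨Q, hQt⟩ := (IsPGroup.of_card (n := 1) (by
    rw [Nat.card_zpowers, Subgroup.orderOf_mk, c.ht, pow_one]) : IsPGroup 2 (zpowers (⟨c.t, htC⟩ : C))).exists_le_sylow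
  have ht'o : orderOf (⟨x * c.t * x⁻¹, hxt⟩ : C) = 2 :=
    (Subgroup.orderOf_mk _ _).trans (((MulAut.conj x).orderOf_eq c.t).trans c.ht)
  obtain ⟨R, hR⟩ := (IsPGroup.of_card (n := 1) (by rw [Nat.card_zpowers, ht'o, pow_one]) :
    IsPGroup 2 (zpowers (⟨x * c.t * x⁻¹, hxt⟩ : C))).exists_le_sylow
  obtain ⟨d, hd⟩ := MulAction.exists_smul_eq C R Q
  have hdQ : d * ⟨x * c.t * x⁻¹, hxt⟩ * d⁻¹ ∈ (Q : Subgroup C) := by
    rw [← hd, Sylow.coe_subgroup_smul]
    exact smul_mem_pointwise_smul _ _ _ (hR (mem_zpowers _))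
  rcases hQ Q (hQt (mem_zpowers _)) _ hdQ with e | e
  · rw [conj_eq_one_iff] at e
    rw [e, orderOf_one] at ht'o; omega
  · have e' : (d : G) * (x * c.t * x⁻¹) * (d : G)⁻¹ = c.t := congrArg Subtype.val e
    have hdx : (d : G) * x * c.t = c.t * ((d : G) * x) := by
      rw [← mul_inv_eq_iff_eq_mul]
      refine Eq.trans ?_ e'
      group
    obtain ⟨k, hk⟩ := c.decomp (c.mem_Ct.2 hdx)
    have hdu : (d : G) * x * c.ι (PSLF.u T) * ((d : G) * x)⁻¹ = (c.ι (PSLF.u T))⁻¹ := by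
      calc (d : G) * x * c.ι (PSLF.u T) * ((d : G) * x)⁻¹ = d * (x * c.ι (PSLF.u T) * x⁻¹) * (d : G)⁻¹ := by group
        _ = (d : G) * (c.ι (PSLF.u T))⁻¹ * (d : G)⁻¹ := by rw [hx]
        _ = _ := by
          rw [mul_inv_eq_iff_eq_mul]
          exact (Commute.inv_right (show Commute (d : G) (c.ι (PSLF.u T)) from
            mem_centralizer_singleton_iff.1 d.2)).eq
    refine PSLF.u_not_conj_inv c.hq (x := k) hT (c.inj ?_)
    rw [map_mul, map_mul, map_inv, map_inv]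
    rcases hk with hk | hk <;> rw [hk] at hdu
    · exact hdu
    · rw [← hdu]
      have h1 : c.t * c.ι k * c.ι (PSLF.u T) * (c.t * c.ι k)⁻¹ =
          c.t * (c.ι k * c.ι (PSLF.u T) * (c.ι k)⁻¹) * c.t⁻¹ := by group
      rw [h1, ← map_inv, ← map_mul, ← map_mul, ← c.ι_comm, mul_inv_cancel_right]

/-- no socle of Ree type -/
theorem no_ree (h : ConjP G) (M : Subgroup G) [M.Normal] {F : Type} [Field F] [Fintype F] [CharP F 3]
    (c : Ctx M F) : False := by
  haveI : Fact (Nat.Prime 3) := ⟨Nat.prime_three⟩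
  refine c.exists_real_three fun s y hs hy hinv => ?_
  obtain ⟨u', hu, hu1⟩ := c.exists_U_ne_one
  have hu3 : orderOf (u' : G) = 3 := orderOf_eq_prime (by
    obtain ⟨w, hw, rfl⟩ := hu
    rw [← Subgroup.coe_pow, ← map_pow, PSLF.Us_cube hw, map_one, OneMemClass.coe_one]) (by simpa using hu1)
  obtain ⟨g, i, hgi⟩ := h.exists_conj Nat.prime_three (hy ▸ Subgroup.orderOf_coe y) hu3
  have hyi : (s : G) * (y : G) ^ i * (s : G)⁻¹ = ((y : G) ^ i)⁻¹ := by
    rw [← conj_zpow, ← inv_zpow]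
    congr 1
    exact congrArg Subtype.val hinv
  let x : M := ⟨g * s * g⁻¹, Normal.conj_mem inferInstance _ s.2 g⟩
  refine root_not_real c (x := x) hu hu1 (Subtype.ext ?_)
  show g * (s : G) * g⁻¹ * (u' : G) * (g * (s : G) * g⁻¹)⁻¹ = ((u' : G))⁻¹
  rw [← hgi]
  calc g * (s : G) * g⁻¹ * (g * (y : G) ^ i * g⁻¹) * (g * (s : G) * g⁻¹)⁻¹
      = g * ((s : G) * (y : G) ^ i * (s : G)⁻¹) * g⁻¹ := by group
    _ = g * ((y : G) ^ i)⁻¹ * g⁻¹ := by rw [hyi]
    _ = _ := by group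

theorem hasTorus_ctx {F : Type} [Field F] [Fintype F] (c : Ctx G F) : HasTorus G := by
  have hq := c.hbig
  exact (hasTorus_psl (MulEquiv.refl _) (Or.inl c.hq) (by omega)).of_injective c.ι c.inj

theorem hasTorus_j1 [IsSimpleGroup G] (hG : Nat.card G = 175560) : HasTorus G := by
  obtain ⟨t, -, ⟨e⟩⟩ := CfsgLib.Recog.J1FromOrder.exists_local hG
  refine HasTorus.of_injective (K := Multiplicative (ZMod 2) × alternatingGroup (Fin 5)) ?_
    ((centralizer ({t} : Set G)).subtype.comp e.symm.toMonoidHom)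
    ((centralizer ({t} : Set G)).subtype_injective.comp e.symm.injective)
  refine ⟨(Multiplicative.ofAdd 1, 1),
    (1, ⟨Equiv.swap 0 1 * Equiv.swap 2 4, Equiv.Perm.mem_alternatingGroup.2 (by decide)⟩),
    (1, ⟨Equiv.swap 0 1 * Equiv.swap 1 2 * Equiv.swap 2 3 * Equiv.swap 3 4,
      Equiv.Perm.mem_alternatingGroup.2 (by decide)⟩), ?_, ?_, ?_, ?_, ?_, ?_⟩
  · exact orderOf_eq_prime (by decide) (by decide)
  · exact orderOf_eq_prime (by decide) (by decide)
  · haveI : Fact (Nat.Prime 5) := ⟨by norm_num⟩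
    rw [orderOf_eq_prime (p := 5) (by decide +kernel) (by decide)]
    decide
  · decide
  · decide +kernel
  · decide +kernel

theorem j1_socle (M : Subgroup G) [M.Normal] [IsSimpleGroup M] (hM : Nat.card M = 175560)
    (hC : centralizer (M : Set G) = ⊥) : M = ⊤ := by
  haveI : IsSimpleGroup ↥Cfsg.Spor.J1 := CfsgLib.Recog.JankoOne.isSimpleGroup
  obtain ⟨e⟩ := Cfsg.Agent.S4273.result hM CfsgLib.Recog.JankoOne.card_eq
  refine eq_top_iff.2 fun g _ => ?_
  obtain ⟨m, hm, hmg⟩ : actHom M e g ∈ M.map (actHom M e) := by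
    rw [map_actHom]
    exact CfsgLib.Recog.JankoOne.aut_inner _
  exact actHom_injective M e hC hmg ▸ hm

end CfsgLib.Orders.EqOrder
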