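import Cfsg.Agent.Lib.Orders.EqualOrder.Socle
import Cfsg.Agent.Lib.GW.Deps.NormalSLTwo
import Cfsg.Agent.S3307
import Cfsg.Agent.S0201
import Cfsg.Agent.S0253

/-!
Owner: helper24. S4019 and S4021 given the list of simple groups with abelian Sylow 2-subgroups.
-/

set_option autoImplicit false
set_option linter.all false

namespace CfsgLib.Orders.EqOrder

open Subgroup

universe u
variable {G : Type u} [Group G] [Finite G]

/-- the quaternion case -/
theorem quaternion_list (hW : CfsgLib.Walter.WalterList.{u}) (h : ConjP G) (hO : Cfsg.oddCore G = ⊥)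
    (S : Sylow 2 G) (eS : (S : Subgroup G) ≃* QuaternionGroup 2) :
    ∃ (p : ℕ) (_ : Fact p.Prime), (p % 8 = 3 ∨ p % 8 = 5) ∧
      (Nonempty (G ≃* Matrix.SpecialLinearGroup (Fin 2) (ZMod p)) ∨
       Nonempty (G ≃* Matrix.SpecialLinearGroup (Fin 2) (GaloisField p 3))) := by
  classical
  haveI : Fact (Nat.Prime 2) := ⟨Nat.prime_two⟩
  have hc : Nat.card (center G) = 2 := Cfsg.Agent.S0201.result S 0 eS fun N hN hodd => by
    haveI := hN
    exact eq_bot_of_odd hO hodd
  have hS8 : Nat.card (S : Subgroup G) = 8 := by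
    rw [Nat.card_congr eS.toEquiv, Nat.card_eq_fintype_card, QuaternionGroup.card]
  set π := QuotientGroup.mk' (center G)
  have hπ : Function.Surjective π := QuotientGroup.mk'_surjective _
  obtain ⟨z, hz⟩ := exists_prime_orderOf_dvd_card' (G := center G) 2 (by rw [hc])
  have hzS : (z : G) ∈ (S : Subgroup G) :=
    (IsPGroup.of_card (n := 1) (by rw [hc, pow_one]) : IsPGroup 2 (center G)).le_sylow_of_normal S z.2
  have hcS : center G ≤ (S : Subgroup G) :=
    (IsPGroup.of_card (n := 1) (by rw [hc, pow_one]) : IsPGroup 2 (center G)).le_sylow_of_normal S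
  have hz2 : orderOf (z : G) = 2 := (Subgroup.orderOf_coe z).trans hz
  have hsq : ∀ x ∈ (S : Subgroup G), x * x ∈ center G := by
    intro x hx
    have key : ∀ a b : QuaternionGroup 2, b * b = 1 → b ≠ 1 → a * a = 1 ∨ a * a = b := by decide
    have hzz : (⟨(z : G), hzS⟩ : (S : Subgroup G)) * ⟨z, hzS⟩ = 1 := Subtype.ext (by
      show (z : G) * z = 1
      rw [← pow_two]; exact orderOf_dvd_iff_pow_eq_one.1 hz2.dvd)
    rcases key (eS ⟨x, hx⟩) (eS ⟨z, hzS⟩) (by rw [← map_mul, hzz, map_one]) (fun h1 => by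
      rw [MulEquiv.map_eq_one_iff] at h1
      have : (z : G) = 1 := congrArg Subtype.val h1
      rw [this, orderOf_one] at hz2; omega) with e | e
    · rw [← map_mul, MulEquiv.map_eq_one_iff] at e
      rw [show x * x = 1 from congrArg Subtype.val e]; exact one_mem _
    · rw [← map_mul] at e
      rw [show x * x = z from congrArg Subtype.val (eS.injective e)]; exact z.2
  let T : Sylow 2 (G ⧸ center G) := S.mapSurjective hπ
  have hT : (T : Subgroup (G ⧸ center G)) = (S : Subgroup G).map π := rfl
  have hTel : Cfsg.IsElementaryAbelian 2 (T : Subgroup (G ⧸ center G)) := by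
    have hsq' : ∀ y ∈ (T : Subgroup (G ⧸ center G)), y * y = 1 := by
      rintro y hy
      rw [hT] at hy
      obtain ⟨x, hx, rfl⟩ := hy
      rw [← map_mul, QuotientGroup.mk'_apply, QuotientGroup.eq_one_iff]
      exact hsq x hx
    refine ⟨⟨⟨fun a b => Subtype.ext ?_⟩⟩, fun y hy => by rw [pow_two]; exact hsq' y hy⟩
    have ha : ((a : G ⧸ center G))⁻¹ = a := inv_eq_of_mul_eq_one_right (hsq' _ a.2)
    have hb : ((b : G ⧸ center G))⁻¹ = b := inv_eq_of_mul_eq_one_right (hsq' _ b.2)
    have hab : ((a : G ⧸ center G) * b)⁻¹ = a * b := inv_eq_of_mul_eq_one_right (hsq' _ (mul_mem a.2 b.2))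
    show (a : G ⧸ center G) * b = b * a
    rw [← hab, _root_.mul_inv_rev, ha, hb]
  have hT4 : Nat.card (T : Subgroup (G ⧸ center G)) = 4 := by
    rw [hT, ← relIndex_ker, QuotientGroup.ker_mk']
    have h1 : (center G).relIndex S * Nat.card ↥((center G).subgroupOf S) = Nat.card (S : Subgroup G) :=
      index_mul_card _
    rw [Nat.card_congr (subgroupOfEquivOfLe hcS).toEquiv, hc, hS8] at h1
    omega
  rcases elementary_list (h.quotient _) hW (CfsgLib.GW.Deps.core_quotient_eq_bot hO (center G) le_rfl hc) T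
    hTel (by rw [hT4]) with ⟨h8, -⟩ | ⟨p, hp, hp8, hq⟩
  · exfalso
    have h1 := (T : Subgroup (G ⧸ center G)).card_mul_index
    rw [hT4] at h1
    have h2 := T.not_dvd_index
    omega
  haveI := hp
  haveI : Fintype (GaloisField p 3) := Fintype.ofFinite _
  -- a field with the group of the quotient
  obtain ⟨F, _, _, hF8, hFp, ⟨eF⟩⟩ : ∃ (F : Type) (_ : Field F) (_ : Fintype F),
      (Fintype.card F % 8 = 3 ∨ Fintype.card F % 8 = 5) ∧
      (Fintype.card F = p ∨ Fintype.card F = p ^ 3) ∧
      Nonempty (G ⧸ center G ≃* Matrix.ProjectiveSpecialLinearGroup (Fin 2) F) := by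
    rcases hq with e | e
    · exact ⟨ZMod p, inferInstance, inferInstance, by rw [ZMod.card]; exact hp8, Or.inl (ZMod.card p), e⟩
    · refine ⟨GaloisField p 3, inferInstance, inferInstance, ?_, Or.inr (card_galois p 3 (by norm_num)), e⟩
      rw [card_galois p 3 (by norm_num), Nat.pow_mod]
      rcases hp8 with e' | e' <;> rw [e'] <;> norm_num
  have hcard : Nat.card G = Fintype.card F * (Fintype.card F ^ 2 - 1) := by
    have h1 := CfsgLib.Classical.Two.card_PSL_two (F := F)
    rw [show Nat.gcd 2 (Fintype.card F - 1) = 2 from Nat.gcd_eq_left (by omega), ← Nat.card_congr eF.toEquiv] at h1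
    rw [Subgroup.card_eq_card_quotient_mul_card_subgroup (center G), hc, mul_comm, h1]
  suffices ∃ (F' : Type) (_ : Field F') (_ : Fintype F'), Fintype.card F' = Fintype.card F ∧
      Nonempty (G ≃* Matrix.SpecialLinearGroup (Fin 2) F') by
    obtain ⟨F', _, _, hc', ⟨e'⟩⟩ := this
    refine ⟨p, hp, hp8, ?_⟩
    rcases hFp with e | e
    · obtain ⟨φ⟩ := exists_ringEquiv (K := F') (K' := ZMod p) (by rw [hc', e, ZMod.card])
      exact Or.inl ⟨e'.trans (CfsgLib.Classical.Dickson.slCongr φ)⟩
    · obtain ⟨φ⟩ := exists_ringEquiv (K := F') (K' := GaloisField p 3)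
        (by rw [hc', e, card_galois p 3 (by norm_num)])
      exact Or.inr ⟨e'.trans (CfsgLib.Classical.Dickson.slCongr φ)⟩
  rcases (show Fintype.card F = 3 ∨ 5 ≤ Fintype.card F by omega) with h3 | h5
  · refine ⟨ZMod 3, inferInstance, inferInstance, by rw [ZMod.card, h3], ?_⟩
    rw [h3] at hcard
    norm_num at hcard
    have hsolG : Group.IsSolvable G := by
      haveI : Group.IsSolvable (center G) := Group.isSolvable_of_comm fun a b => mul_comm' a b
      have hq12 : Nat.card (G ⧸ center G) = 12 := by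
        have := Subgroup.card_eq_card_quotient_mul_card_subgroup (center G)
        rw [hcard, hc] at this
        omega
      haveI : Group.IsSolvable (Matrix.ProjectiveSpecialLinearGroup (Fin 2) F) :=
        CfsgLib.Known.GLFourTwo.isSolvable_of_lt_sixty (by rw [← Nat.card_congr eF.toEquiv, hq12]; norm_num)
      haveI : Group.IsSolvable (G ⧸ center G) :=
        Group.isSolvable_of_surjective (f := eF.symm.toMonoidHom) eF.symm.surjective
      exact (Group.isSolvable_iff_subgroup_quotient (center G)).2 ⟨inferInstance, inferInstance⟩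
    obtain ⟨C, hC⟩ := CfsgLib.GW.Deps.NormalSL.shape_q8 (S : Subgroup G) eS
    have hne : (S : Subgroup G) ≠ ⊤ := fun e => by
      rw [e, card_top, hcard] at hS8; omega
    have hZ : (S : Subgroup G) ⊓ centralizer ((S : Subgroup G) : Set G) = center G := by
      refine le_antisymm (fun x hx => ?_) (le_inf hcS (center_le_centralizer _))
      have key : ∀ q : QuaternionGroup 2, (∀ r, q * r = r * q) → ∀ b : QuaternionGroup 2, b * b = 1 → b ≠ 1 →
          q = 1 ∨ q = b := by decide
      rcases key (eS ⟨x, hx.1⟩) (fun r => by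
          obtain ⟨r, rfl⟩ := eS.surjective r
          rw [← map_mul, ← map_mul]
          exact congrArg eS (Subtype.ext (mem_centralizer_iff.1 hx.2 r r.2).symm))
        (eS ⟨z, hzS⟩) (by
          rw [← map_mul]
          refine (congrArg eS (Subtype.ext ?_)).trans (map_one eS)
          show (z : G) * z = 1
          rw [← pow_two]; exact orderOf_dvd_iff_pow_eq_one.1 hz2.dvd)
        (fun h1 => by
          rw [MulEquiv.map_eq_one_iff] at h1
          have : (z : G) = 1 := congrArg Subtype.val h1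
          rw [this, orderOf_one] at hz2; omega) with e | e
      · rw [MulEquiv.map_eq_one_iff] at e
        rw [show x = 1 from congrArg Subtype.val e]; exact one_mem _
      · rw [show x = z from congrArg Subtype.val (eS.injective e)]; exact z.2
    obtain ⟨U, -, ⟨eU⟩⟩ := CfsgLib.LocalEven.DihedralSolvable.exists_sl_two_three hsolG hO S hC hne
      (hZ ▸ inferInstance)
    have hU : U = ⊤ := eq_top_of_card_eq U (by
      rw [Nat.card_congr eU.toEquiv, CfsgLib.Classical.Two.card_SL_two, ZMod.card, hcard]; norm_num)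
    exact ⟨(topEquiv.symm.trans (MulEquiv.subgroupCongr hU.symm)).trans eU⟩
  · haveI := CfsgLib.Classical.isSimpleGroup_PSL_two (F := F) (show 4 ≤ Fintype.card F by omega)
    haveI : Nontrivial (G ⧸ center G) := eF.toEquiv.nontrivial
    haveI : IsSimpleGroup (G ⧸ center G) :=
      IsSimpleGroup.isSimpleGroup_of_surjective eF.symm.toMonoidHom eF.symm.surjective
    have hns : ¬ Group.IsSolvable G := by
      intro hs
      haveI := hs
      haveI : Group.IsSolvable (Matrix.ProjectiveSpecialLinearGroup (Fin 2) F) :=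
        Group.isSolvable_of_surjective (f := eF.toMonoidHom.comp π) (eF.surjective.comp hπ)
      have hcm : IsMulCommutative (Matrix.ProjectiveSpecialLinearGroup (Fin 2) F) :=
        ⟨⟨(IsSimpleGroup.comm_iff_isSolvable (G := Matrix.ProjectiveSpecialLinearGroup (Fin 2) F)).2 inferInstance⟩⟩
      haveI := CfsgLib.GW.Deps.QuatTools.psl_perfect (F := F) (by omega)
      exact Group.IsPerfect.not_isMulCommutative _ hcm
    obtain ⟨-, G₁, hG₁, hN, hodd, -, F', _, _, hF'8, hF'3, ⟨e'⟩⟩ := Cfsg.Agent.S3307.result hns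
      (fun S' => ⟨0, ⟨(Sylow.equiv S' S).trans eS⟩⟩) (fun S₁ S₂ hne => by
        -- proper subgroups of the quaternion group are cyclic
        let e₁ : (S₁ : Subgroup G) ≃* QuaternionGroup 2 := (Sylow.equiv S₁ S).trans eS
        set D := ((S₁ : Subgroup G) ⊓ S₂).subgroupOf S₁
        have hD : D ≠ ⊤ := by
          intro ht
          rw [subgroupOf_eq_top] at ht
          exact hne (Sylow.ext (S₁.3 S₂.isPGroup' (ht.trans inf_le_right)).symm)
        set E := D.map e₁.toMonoidHom
        have hE : E ≠ ⊤ := fun ht => hD (map_injective (f := e₁.toMonoidHom) e₁.injective (by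
          show E = _
          rw [ht, ← MonoidHom.range_eq_map, MonoidHom.range_eq_top.2 e₁.surjective]))
        have hEc : IsCyclic E := by
          have hd : Nat.card E ∣ 2 ^ 3 := by
            have := card_subgroup_dvd_card E
            rwa [Nat.card_eq_fintype_card (α := QuaternionGroup 2), QuaternionGroup.card] at this
          obtain ⟨k, hk, hk'⟩ := (Nat.dvd_prime_pow Nat.prime_two).1 hd
          rcases (show k = 0 ∨ k = 1 ∨ k = 2 ∨ k = 3 by omega) with rfl | rfl | rfl | rfl
          · exact @isCyclic_of_subsingleton _ _ (Nat.card_eq_one_iff_unique.1 hk').1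
          · exact isCyclic_of_prime_card (p := 2) hk'
          · -- at most one involution
            obtain ⟨a, ha, ha'⟩ : ∃ a ∈ E, orderOf a = 4 := by
              by_contra hno
              push Not at hno
              have hall : ∀ a ∈ E, a = 1 ∨ a = QuaternionGroup.a 2 := by
                intro a ha
                have h4 : orderOf a ∣ 2 ^ 2 := hk' ▸ orderOf_dvd_natCard E ha
                obtain ⟨j, hj, hj'⟩ := (Nat.dvd_prime_pow Nat.prime_two).1 h4
                have key : ∀ q : QuaternionGroup 2, q * q = 1 → q = 1 ∨ q = .a 2 := by decide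
                refine key a ?_
                rw [← pow_two]
                refine orderOf_dvd_iff_pow_eq_one.1 ?_
                rcases (show j = 0 ∨ j = 1 ∨ j = 2 by omega) with rfl | rfl | rfl
                · rw [hj']; norm_num
                · rw [hj']; norm_num
                · exact absurd hj' (hno a ha)
              haveI : Fintype E := Fintype.ofFinite _
              have hle : Nat.card E ≤ 2 := by
                rw [Nat.card_eq_fintype_card, ← Finset.card_univ, ← Finset.card_map ⟨_, E.subtype_injective⟩]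
                refine (Finset.card_le_card (t := ({1, QuaternionGroup.a 2} : Finset _)) fun x hx => ?_).trans
                  Finset.card_le_two
                simp only [Finset.mem_map, Finset.mem_univ, true_and] at hx
                obtain ⟨y, rfl⟩ := hx
                simpa using hall _ y.2
              omega
            exact isCyclic_of_orderOf_eq_card (⟨a, ha⟩ : E) (by
              rw [Subgroup.orderOf_mk, ha', hk']; norm_num)
          · exact absurd (eq_top_of_card_eq E (by
              rw [hk', Nat.card_eq_fintype_card, QuaternionGroup.card]; norm_num)) hE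
        haveI := hEc
        let eD : D ≃* E := D.equivMapOfInjective _ e₁.injective
        haveI : IsCyclic D := isCyclic_of_surjective eD.symm.toMonoidHom eD.symm.surjective
        exact isCyclic_of_surjective (subgroupOfEquivOfLe inf_le_left).toMonoidHom
          (subgroupOfEquivOfLe (inf_le_left : (S₁ : Subgroup G) ⊓ S₂ ≤ S₁)).surjective)
    haveI := hN
    have hbot : (Cfsg.oddCore G).subgroupOf G₁ = ⊥ := by rw [hO, bot_subgroupOf]
    let e₁ : G₁ ≃* Matrix.SpecialLinearGroup (Fin 2) F' :=
      (QuotientGroup.quotientBot.symm.trans (QuotientGroup.quotientMulEquivOfEq hbot.symm)).trans e'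
    have htop : G₁ = ⊤ := by
      haveI := hG₁
      haveI : (G₁.map π).Normal := Normal.map inferInstance π hπ
      rcases Normal.eq_bot_or_eq_top (inferInstance : (G₁.map π).Normal) with hb | ht
      · exfalso
        rw [Subgroup.map_eq_bot_iff, QuotientGroup.ker_mk'] at hb
        have h1 := card_dvd_of_le hb
        rw [hc, Nat.card_congr e₁.toEquiv, CfsgLib.Classical.Two.card_SL_two] at h1
        have h2 := Nat.le_of_dvd (by norm_num) h1
        have h3 : 5 ^ 2 - 1 ≤ Fintype.card F' ^ 2 - 1 :=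
          Nat.sub_le_sub_right (Nat.pow_le_pow_left (by omega) 2) 1
        have := Nat.mul_le_mul (show 5 ≤ Fintype.card F' by omega) h3
        omega
      · have h1 : G₁ ⊔ center G = ⊤ := by
          have := congrArg (Subgroup.comap π) ht
          rwa [comap_map_eq, QuotientGroup.ker_mk', comap_top] at this
        have hd : G₁.index ∣ 2 := by
          rw [← relIndex_top_right, ← h1, relIndex_sup_left, ← hc]
          exact relIndex_dvd_card _ _
        rcases (Nat.dvd_prime Nat.prime_two).1 hd with e | e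
        · exact index_eq_one.1 e
        · rw [e] at hodd; exact absurd hodd (by decide)
    subst htop
    refine ⟨F', inferInstance, inferInstance, ?_, ⟨topEquiv.symm.trans e₁⟩⟩
    have hc' : Fintype.card F' * (Fintype.card F' ^ 2 - 1) = Fintype.card F * (Fintype.card F ^ 2 - 1) := by
      rw [← hcard, ← card_top (G := G), Nat.card_congr e₁.toEquiv, CfsgLib.Classical.Two.card_SL_two]
    rcases lt_trichotomy (Fintype.card F') (Fintype.card F) with hlt | he | hgt
    · refine absurd hc' (ne_of_lt ?_)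
      exact Nat.mul_lt_mul_of_lt_of_le hlt
        (Nat.sub_le_sub_right (Nat.pow_le_pow_left hlt.le 2) 1) (Nat.sub_pos_of_lt (Nat.one_lt_pow two_ne_zero (by omega)))
    · exact he
    · refine absurd hc'.symm (ne_of_lt ?_)
      exact Nat.mul_lt_mul_of_lt_of_le hgt
        (Nat.sub_le_sub_right (Nat.pow_le_pow_left hgt.le 2) 1) (Nat.sub_pos_of_lt (Nat.one_lt_pow two_ne_zero (by omega)))

/-- the conclusion of S4019 -/
def List19 (Q : Type u) [Group Q] : Prop :=
    (IsCyclic Q ∧ IsPGroup 2 Q) ∨
    Nonempty (Q ≃* Cfsg.affineGroup (GaloisField 2 3)) ∨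
    Nonempty (Q ≃* Cfsg.semiaffineGroup (GaloisField 2 3)) ∨
    Nonempty (Q ≃* Cfsg.semiaffineGroup (GaloisField 2 5)) ∨
    Cfsg.IsJ1 Q ∨
    Nonempty (Q ≃* Matrix.ProjectiveSpecialLinearGroup (Fin 2) (GaloisField 2 3)) ∨
    Nonempty (Q ≃* MulAut (Matrix.ProjectiveSpecialLinearGroup (Fin 2) (GaloisField 2 5))) ∨
    (∃ (p : ℕ) (_ : Fact p.Prime), (p % 8 = 3 ∨ p % 8 = 5) ∧
      (Nonempty (Q ≃* Matrix.ProjectiveSpecialLinearGroup (Fin 2) (ZMod p)) ∨
       Nonempty (Q ≃* Matrix.ProjectiveSpecialLinearGroup (Fin 2) (GaloisField p 3)) ∨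
       Nonempty (Q ≃* Matrix.SpecialLinearGroup (Fin 2) (ZMod p)) ∨
       Nonempty (Q ≃* Matrix.SpecialLinearGroup (Fin 2) (GaloisField p 3))))

theorem list_of_core_bot (hW : CfsgLib.Walter.WalterList.{u}) (h : ConjP G) (hO : Cfsg.oddCore G = ⊥) :
    List19 G := by
  classical
  haveI : Fact (Nat.Prime 2) := ⟨Nat.prime_two⟩
  obtain ⟨S⟩ : Nonempty (Sylow 2 G) := inferInstance
  have hcyc : IsCyclic (S : Subgroup G) → List19 G := fun hcS => by
    refine Or.inl ?_
    by_cases h2 : 2 ∣ Nat.card G
    · haveI := hcS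
      have hmin : (Nat.card G).minFac = 2 := (Nat.minFac_eq_two_iff _).2 h2
      set f := MonoidHom.transferSylow S (hcS.normalizer_le_centralizer hmin)
      have hker : f.ker = ⊥ := eq_bot_of_odd hO (by
        rw [← Nat.not_even_iff_odd, even_iff_two_dvd]
        exact MonoidHom.not_dvd_card_ker_transferSylow S _)
      have hinj : Function.Injective f := (MonoidHom.ker_eq_bot_iff f).1 hker
      exact ⟨isCyclic_of_injective f hinj, S.isPGroup'.of_injective f hinj⟩
    · have hodd : Odd (Nat.card (⊤ : Subgroup G)) := by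
        rw [card_top, ← Nat.not_even_iff_odd, even_iff_two_dvd]; exact h2
      haveI : Subsingleton G := by
        have h1 := eq_bot_of_odd hO hodd
        exact ⟨fun a b => (mem_bot.1 (h1 ▸ mem_top a)).trans (mem_bot.1 (h1 ▸ mem_top b)).symm⟩
      exact ⟨inferInstance, fun x => ⟨0, Subsingleton.elim _ _⟩⟩
  rcases Cfsg.Agent.S4023.result (h 2 Nat.prime_two) S with hc | he | ⟨-, ⟨eQ⟩⟩ | ⟨h2, -⟩
  · exact hcyc hc
  · obtain ⟨k, hk⟩ := IsPGroup.iff_card.1 S.isPGroup'
    rcases Nat.lt_or_ge k 2 with hlt | hge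
    · refine hcyc ?_
      rcases (show k = 0 ∨ k = 1 by omega) with rfl | rfl
      · haveI := (Nat.card_eq_one_iff_unique.1 hk).1
        infer_instance
      · exact isCyclic_of_prime_card (p := 2) (by rw [hk, pow_one])
    · rcases elementary_list h hW hO S he (by rw [hk]; exact Nat.pow_le_pow_right two_pos hge) with
        ⟨-, hb⟩ | ⟨p, hp, hp8, hq⟩
      · rcases hb with hb | hb | hb | hb | hb | hb
        · exact Or.inr (Or.inl hb)
        · exact Or.inr (Or.inr (Or.inl hb))
        · exact Or.inr (Or.inr (Or.inr (Or.inl hb)))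
        · exact Or.inr (Or.inr (Or.inr (Or.inr (Or.inl hb))))
        · exact Or.inr (Or.inr (Or.inr (Or.inr (Or.inr (Or.inl hb)))))
        · exact Or.inr (Or.inr (Or.inr (Or.inr (Or.inr (Or.inr (Or.inl hb))))))
      · refine Or.inr (Or.inr (Or.inr (Or.inr (Or.inr (Or.inr (Or.inr ⟨p, hp, hp8, ?_⟩))))))
        exact hq.imp id Or.inl
  · obtain ⟨p, hp, hp8, hq⟩ := quaternion_list hW h hO S eQ
    exact Or.inr (Or.inr (Or.inr (Or.inr (Or.inr (Or.inr (Or.inr ⟨p, hp, hp8, Or.inr (Or.inr hq)⟩))))))
  · exact absurd rfl h2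

/-- S4019 given the Walter list -/
theorem list19 (hW : CfsgLib.Walter.WalterList.{u}) (h : ConjP G) : List19 (G ⧸ Cfsg.oddCore G) :=
  list_of_core_bot hW (h.quotient _) (CfsgLib.Core.pPrimeCore_quotient_pPrimeCore 2 G)

/-! ### S4021 -/

theorem ConjA.no_torus (h : ConjA G) : ¬ HasTorus G := by
  rintro ⟨t, s, x, ht, hs, hx, hx1, htx, hsx⟩
  have ho : orderOf (t * x) = 2 * orderOf x := by
    rw [Commute.orderOf_mul_eq_mul_orderOf_of_coprime htx (by rw [ht]; exact Nat.coprime_two_left.2 hx), ht]
  set X := zpowers x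
  have hsN : zpowers s ≤ normalizer (X : Set G) := zpowers_le.2 (mem_normalizer_iff.2 fun z => by
    constructor
    · rintro ⟨k, rfl⟩
      exact ⟨-k, by rw [← conj_zpow, hsx]; simp⟩
    · rintro ⟨k, hk⟩
      refine ⟨-k, ?_⟩
      have hk' : x ^ k = s * z * s⁻¹ := hk
      have h1 : s * x ^ (-k) * s⁻¹ = x ^ k := by rw [← conj_zpow, hsx]; simp
      exact mul_left_cancel (a := s) (mul_right_cancel (b := s⁻¹) (h1.trans hk')))
  have hcard : Nat.card ↥(X ⊔ zpowers s) = 2 * orderOf x := by
    rw [sup_comm, CfsgLib.Core.card_sup_of_coprime (zpowers s) X hsN (by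
      rw [Nat.card_zpowers, Nat.card_zpowers, hs]; exact Nat.coprime_two_left.2 hx),
      Nat.card_zpowers, Nat.card_zpowers, hs]
  obtain ⟨g, hg⟩ := h (zpowers (t * x)) (X ⊔ zpowers s) (by rw [Nat.card_zpowers, ho, hcard])
  have hs' : s ∈ (zpowers (t * x)).map (MulAut.conj g).toMonoidHom := hg ▸ mem_sup_right (mem_zpowers s)
  have hx' : x ∈ (zpowers (t * x)).map (MulAut.conj g).toMonoidHom := hg ▸ mem_sup_left (mem_zpowers x)
  rw [MonoidHom.map_zpowers] at hs' hx'
  obtain ⟨i, ha⟩ := mem_zpowers_iff.1 hs'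
  obtain ⟨j, hb⟩ := mem_zpowers_iff.1 hx'

  have hcomm : s * x = x * s := by
    generalize (MulAut.conj g).toMonoidHom (t * x) = w at ha hb
    subst ha hb
    exact ((Commute.refl w).zpow_zpow i j).eq
  have hinv : x⁻¹ = x := by rw [← hsx, hcomm, mul_inv_cancel_right]
  have : orderOf x ∣ 2 := orderOf_dvd_of_pow_eq_one (by
    rw [pow_two]; nth_rewrite 1 [← hinv]; exact inv_mul_cancel x)
  rcases (Nat.dvd_prime Nat.prime_two).1 this with e | e
  · exact hx1 (orderOf_eq_one_iff.1 e)
  · rw [e] at hx; exact absurd hx (by decide)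

theorem small_cases (h : ConjA G) {F : Type} [Field F] [Fintype F]
    (h8 : Fintype.card F % 8 = 3 ∨ Fintype.card F % 8 = 5)
    (e : G ≃* Matrix.ProjectiveSpecialLinearGroup (Fin 2) F) : Fintype.card F = 3 ∨ Fintype.card F = 5 := by
  rcases (show Fintype.card F = 3 ∨ Fintype.card F = 5 ∨ 5 < Fintype.card F by omega) with h' | h' | h'
  · exact Or.inl h'
  · exact Or.inr h'
  · exact absurd (hasTorus_psl e h8 h') h.no_torus

/-- the conclusion of S4021 -/
def List21 (Q : Type u) [Group Q] : Prop :=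
    (IsCyclic Q ∧ IsPGroup 2 Q) ∨
    Nonempty (Q ≃* Cfsg.affineGroup (GaloisField 2 3)) ∨
    Nonempty (Q ≃* Cfsg.semiaffineGroup (GaloisField 2 3)) ∨
    Nonempty (Q ≃* Cfsg.semiaffineGroup (GaloisField 2 5)) ∨
    Nonempty (Q ≃* Matrix.ProjectiveSpecialLinearGroup (Fin 2) (GaloisField 2 3)) ∨
    Nonempty (Q ≃* MulAut (Matrix.ProjectiveSpecialLinearGroup (Fin 2) (GaloisField 2 5))) ∨
    Nonempty (Q ≃* alternatingGroup (Fin 4)) ∨
    Nonempty (Q ≃* alternatingGroup (Fin 5)) ∨
    Nonempty (Q ≃* Matrix.SpecialLinearGroup (Fin 2) (ZMod 3)) ∨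
    Nonempty (Q ≃* Matrix.SpecialLinearGroup (Fin 2) (ZMod 5))

/-- quotient of a special linear group by its centre -/
theorem conjA_psl {F : Type} [Field F] [Fintype F] (h : ConjA G)
    (e : G ≃* Matrix.SpecialLinearGroup (Fin 2) F)
    (h8 : Fintype.card F % 8 = 3 ∨ Fintype.card F % 8 = 5) : Fintype.card F = 3 ∨ Fintype.card F = 5 := by
  let e' : G ⧸ center G ≃* Matrix.ProjectiveSpecialLinearGroup (Fin 2) F :=
    QuotientGroup.congr _ _ e (CfsgLib.Known.AutPSL.map_center_eq e)
  exact small_cases (h.quotient (center G)) h8 e'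

theorem list21_of_core_bot (hW : CfsgLib.Walter.WalterList.{u}) (h : ConjA G)
    (hO : Cfsg.oddCore G = ⊥) : List21 G := by
  classical
  rcases list_of_core_bot hW h.conjP hO with h1 | h1 | h1 | h1 | hJ | h1 | h1 | ⟨p, hp, hp8, hq⟩
  · exact Or.inl h1
  · exact Or.inr (Or.inl h1)
  · exact Or.inr (Or.inr (Or.inl h1))
  · exact Or.inr (Or.inr (Or.inr (Or.inl h1)))
  · haveI := hJ.1
    exact absurd (hasTorus_j1 hJ.2) h.no_torus
  · exact Or.inr (Or.inr (Or.inr (Or.inr (Or.inl h1))))
  · exact Or.inr (Or.inr (Or.inr (Or.inr (Or.inr (Or.inl h1)))))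
  · haveI := hp
    haveI : Fintype (GaloisField p 3) := Fintype.ofFinite _
    have hcG := card_galois p 3 (by norm_num)
    have h8G : Fintype.card (GaloisField p 3) % 8 = 3 ∨ Fintype.card (GaloisField p 3) % 8 = 5 := by
      rw [hcG, Nat.pow_mod]
      rcases hp8 with e | e <;> rw [e] <;> norm_num
    have hbig : 8 ≤ Fintype.card (GaloisField p 3) := hcG ▸
      (Nat.pow_le_pow_left hp.out.two_le 3 : 2 ^ 3 ≤ p ^ 3)
    have h8Z : Fintype.card (ZMod p) % 8 = 3 ∨ Fintype.card (ZMod p) % 8 = 5 := by rw [ZMod.card]; exact hp8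
    rcases hq with ⟨⟨e⟩⟩ | ⟨⟨e⟩⟩ | ⟨⟨e⟩⟩ | ⟨⟨e⟩⟩
    · have := small_cases h h8Z e
      rw [ZMod.card] at this
      rcases this with rfl | rfl
      · obtain ⟨e'⟩ := Cfsg.Agent.S0251.result (F := ZMod 3) (ZMod.card 3)
        exact Or.inr (Or.inr (Or.inr (Or.inr (Or.inr (Or.inr (Or.inl ⟨e.trans e'⟩))))))
      · obtain ⟨e'⟩ := Cfsg.Agent.S0253.result (F := ZMod 5) (ZMod.card 5)
        exact Or.inr (Or.inr (Or.inr (Or.inr (Or.inr (Or.inr (Or.inr (Or.inl ⟨e.trans e'⟩)))))))
    · have := small_cases h h8G e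
      omega
    · have := conjA_psl h e h8Z
      rw [ZMod.card] at this
      rcases this with rfl | rfl
      · exact Or.inr (Or.inr (Or.inr (Or.inr (Or.inr (Or.inr (Or.inr (Or.inr (Or.inl ⟨e⟩))))))))
      · exact Or.inr (Or.inr (Or.inr (Or.inr (Or.inr (Or.inr (Or.inr (Or.inr (Or.inr ⟨e⟩))))))))
    · have := conjA_psl h e h8G
      omega

/-- S4021 given the Walter list -/
theorem list21 (hW : CfsgLib.Walter.WalterList.{u}) (h : ConjA G) : List21 (G ⧸ Cfsg.oddCore G) :=
  list21_of_core_bot hW (h.quotient _) (CfsgLib.Core.pPrimeCore_quotient_pPrimeCore 2 G)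

end CfsgLib.Orders.EqOrder
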