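import Cfsg.Agent.Lib.Orders.EqualOrder.Basic
import Cfsg.Agent.Lib.Perm.CharSimple
import Cfsg.Agent.Lib.Core.MinNormal
import Cfsg.Agent.Lib.Components.Subnormal
import Cfsg.Agent.S4025
import Cfsg.Agent.S0205
import Cfsg.Agent.S0251
import Cfsg.Prelude.Def_Perm
import Mathlib.GroupTheory.SchurZassenhaus

/-!
Owner: helper24. S4019: groups with elementary abelian Sylow 2-subgroup and no odd core are affine or almost
simple.
-/

set_option autoImplicit false
set_option linter.all false

namespace CfsgLib.Orders.EqOrder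

open Subgroup

variable {G : Type*} [Group G] [Finite G]

theorem isSolvable_odd {H : Type*} [Group H] [Finite H] (h : Odd (Nat.card H)) : Group.IsSolvable H :=
  Cfsg.Agent.S0205.result h

theorem isSolvable_normalizer_sylow (S : Sylow 2 G) (hab : IsMulCommutative (S : Subgroup G)) :
    Group.IsSolvable ↥(normalizer ((S : Subgroup G) : Set G)) := by
  haveI : Fact (Nat.Prime 2) := ⟨Nat.prime_two⟩
  set N := normalizer ((S : Subgroup G) : Set G)
  have hS : (S : Subgroup G) ≤ N := le_normalizer
  haveI : ((S : Subgroup G).subgroupOf N).Normal := normal_in_normalizer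
  haveI := hab
  haveI : Group.IsSolvable ↥((S : Subgroup G).subgroupOf N) :=
    Group.isSolvable_of_comm fun a b => Subtype.ext (Subtype.ext
      ((congrArg Subtype.val (hab.is_comm.comm (⟨((a : N) : G), a.2⟩ : (S : Subgroup G)) ⟨((b : N) : G), b.2⟩) :)))
  haveI : Group.IsSolvable (↥N ⧸ (S : Subgroup G).subgroupOf N) := isSolvable_odd (by
    rw [← index_eq_card, ← Nat.not_even_iff_odd, even_iff_two_dvd]
    exact fun h => S.not_dvd_index (h.trans (relIndex_dvd_index_of_le hS)))
  exact (Group.isSolvable_iff_subgroup_quotient ((S : Subgroup G).subgroupOf N)).2 ⟨inferInstance, inferInstance⟩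

theorem relIndex_dvd_index' {H K : Subgroup G} (h : H ≤ K) : (H.subgroupOf K).index ∣ H.index :=
  relIndex_dvd_index_of_le h

/-- In the affine case the centralizer of the Sylow `2`-subgroup is the subgroup itself -/
theorem centralizer_eq (hO : Cfsg.oddCore G = ⊥) (S : Sylow 2 G) [(S : Subgroup G).Normal]
    (hab : IsMulCommutative (S : Subgroup G)) : centralizer ((S : Subgroup G) : Set G) = S := by
  haveI : Fact (Nat.Prime 2) := ⟨Nat.prime_two⟩
  set C := centralizer ((S : Subgroup G) : Set G)
  have hSC : (S : Subgroup G) ≤ C := fun x hx => mem_centralizer_iff.2 fun y hy =>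
    congrArg Subtype.val (hab.is_comm.comm (⟨y, hy⟩ : (S : Subgroup G)) ⟨x, hx⟩)
  let S' : Sylow 2 C := S.subtype hSC
  have hcen : normalizer ((S' : Subgroup C) : Set C) ≤ centralizer ((S' : Subgroup C) : Set C) := by
    intro x _
    rw [mem_centralizer_iff]
    intro y hy
    exact Subtype.ext (mem_centralizer_iff.1 x.2 _ hy)
  set K := (MonoidHom.transferSylow S' hcen).ker
  have hcomp : IsComplement' K (S' : Subgroup C) := MonoidHom.ker_transferSylow_isComplement' S' hcen
  have hKodd : (Nat.card K).Coprime 2 :=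
    (Nat.prime_two.coprime_iff_not_dvd.2 (MonoidHom.not_dvd_card_ker_transferSylow S' hcen)).symm
  have hK : (Cfsg.pPrimeCore 2 C) = ⊥ := by
    have h := CfsgLib.Core.map_subtype_pPrimeCore_le (p := 2) C
    rwa [show Cfsg.pPrimeCore 2 G = ⊥ from hO, le_bot_iff,
      map_eq_bot_iff_of_injective _ C.subtype_injective] at h
  have hKb : K = ⊥ := le_bot_iff.1 (hK ▸ CfsgLib.Core.le_pPrimeCore hKodd)
  refine le_antisymm (fun x hx => ?_) hSC
  have h1 := hcomp.card_mul
  rw [hKb, card_bot, one_mul] at h1
  have h2 := eq_top_of_card_eq _ h1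
  exact (h2 ▸ mem_top (⟨x, hx⟩ : C) : (⟨x, hx⟩ : C) ∈ (S' : Subgroup C))

/-- order twelve, four group self-centralizing -/
theorem alt_four (S : Sylow 2 G) [(S : Subgroup G).Normal] (h4 : Nat.card (S : Subgroup G) = 4)
    (hC : centralizer ((S : Subgroup G) : Set G) = S) (h12 : Nat.card G = 12) :
    Nonempty (G ≃* alternatingGroup (Fin 4)) := by
  haveI : Fact (Nat.Prime 3) := ⟨by norm_num⟩
  obtain ⟨c, hc⟩ := exists_prime_orderOf_dvd_card' (G := G) 3 (by rw [h12]; norm_num)
  set H := zpowers c
  have hH : Nat.card H = 3 := by rw [Nat.card_zpowers, hc]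
  have hidx : H.index = 4 := by
    have := H.card_mul_index; rw [hH, h12] at this; omega
  have hcore : H.normalCore = ⊥ := by
    by_contra hne
    have hd := (card_dvd_of_le (normalCore_le H)).trans (dvd_of_eq hH)
    rcases (Nat.dvd_prime (by norm_num : Nat.Prime 3)).1 hd with h1 | h1
    · exact hne (card_eq_one.1 h1)
    · have hcN : c ∈ H.normalCore := by
        rw [eq_of_le_of_card_ge (normalCore_le H) (by rw [hH, h1])]; exact mem_zpowers c
      have hdisj : Disjoint H.normalCore (S : Subgroup G) :=
        disjoint_iff.2 (inf_eq_bot_of_coprime (by rw [h1, h4]; norm_num))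
      have hcC : c ∈ centralizer ((S : Subgroup G) : Set G) := mem_centralizer_iff.2 fun y hy =>
        (commute_of_normal_of_disjoint _ _ inferInstance inferInstance hdisj c y hcN hy).eq.symm
      rw [hC] at hcC
      have := orderOf_dvd_natCard (S : Subgroup G) hcC
      rw [hc, h4] at this
      omega
  let e4 : G ⧸ H ≃ Fin 4 := (Finite.equivFinOfCardEq (by rw [← index_eq_card, hidx]))
  let f : G →* Equiv.Perm (Fin 4) := e4.permCongrHom.toMonoidHom.comp (MulAction.toPermHom G (G ⧸ H))
  have hf : Function.Injective f := by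
    refine e4.permCongrHom.injective.comp ?_
    rw [← MonoidHom.ker_eq_bot_iff, ← normalCore_eq_ker, hcore]
  have hcard : Nat.card f.range = 12 := by
    rw [← Nat.card_congr (MonoidHom.ofInjective hf).toEquiv, h12]
  have hr : f.range = alternatingGroup (Fin 4) := Equiv.Perm.eq_alternatingGroup_of_index_eq_two (by
    have := f.range.card_mul_index
    rw [hcard, Nat.card_perm, Nat.card_fin, show Nat.factorial 4 = 24 from rfl] at this
    omega)
  exact ⟨(MonoidHom.ofInjective hf).trans (MulEquiv.subgroupCongr hr)⟩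

/-- the affine case -/
theorem affine_cases (h : ConjP G) (hO : Cfsg.oddCore G = ⊥) (S : Sylow 2 G) [(S : Subgroup G).Normal]
    (hel : Cfsg.IsElementaryAbelian 2 (S : Subgroup G)) (hS : 4 ≤ Nat.card (S : Subgroup G)) :
    (8 ∣ Nat.card G ∧
      (Nonempty (G ≃* Cfsg.affineGroup (GaloisField 2 3)) ∨
        Nonempty (G ≃* Cfsg.semiaffineGroup (GaloisField 2 3)) ∨
        Nonempty (G ≃* Cfsg.semiaffineGroup (GaloisField 2 5)))) ∨
    Nonempty (G ≃* Matrix.ProjectiveSpecialLinearGroup (Fin 2) (ZMod 3)) := by
  haveI : Fact (Nat.Prime 2) := ⟨Nat.prime_two⟩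
  haveI := hel.1
  have hC := centralizer_eq hO S hel.1
  obtain ⟨n, hn⟩ := IsPGroup.iff_card.1 S.isPGroup'
  have hn2 : 2 ≤ n := by
    by_contra hlt
    have : 2 ^ n ≤ 2 ^ 1 := Nat.pow_le_pow_right (by norm_num) (by omega)
    omega
  rcases Nat.lt_or_ge n 3 with hlt | hge
  · -- dimension two
    right
    obtain rfl : n = 2 := by omega
    have h4 : Nat.card (S : Subgroup G) = 4 := hn
    let φ : G →* MulAut (S : Subgroup G) := MulAut.conjNormal
    have hker : φ.ker = S := by
      refine SetLike.ext fun g => ?_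
      rw [MonoidHom.mem_ker]
      constructor
      · intro hg
        rw [← hC]
        refine mem_centralizer_iff.2 fun y hy => ?_
        have e := congrArg Subtype.val (DFunLike.congr_fun hg (⟨y, hy⟩ : (S : Subgroup G)))
        rw [MulAut.conjNormal_apply] at e
        exact (mul_inv_eq_iff_eq_mul.1 e).symm
      · intro hg
        refine MulEquiv.ext fun y => Subtype.ext ?_
        rw [MulAut.conjNormal_apply, MulAut.one_apply]
        rw [← hC] at hg
        rw [← mem_centralizer_iff.1 hg _ y.2, mul_inv_cancel_right]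
    have hK : IsKleinFour (S : Subgroup G) := ⟨h4, by
      rcases (Nat.dvd_prime Nat.prime_two).1 (Monoid.exponent_dvd_of_forall_pow_eq_one
        (G := (S : Subgroup G)) fun a => Subtype.ext (hel.2 a a.2)) with e | e
      · haveI := Monoid.exp_eq_one_iff.1 e
        rw [Nat.card_of_subsingleton (1 : (S : Subgroup G))] at h4
        omega
      · exact e⟩
    haveI := hK
    have hidx : (S : Subgroup G).index = 3 := by
      have hle : (S : Subgroup G).index ∣ 6 := by
        rw [← hker, index_ker]
        let T := {x : (S : Subgroup G) // x ≠ 1}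
        let ψ : MulAut (S : Subgroup G) →* Equiv.Perm T :=
          { toFun := fun α => Equiv.subtypeEquiv α.toEquiv fun x => by simp
            map_one' := rfl
            map_mul' := fun α β => rfl }
        have hψ : Function.Injective ψ := by
          intro α β hab
          refine MulEquiv.ext fun x => ?_
          by_cases hx : x = 1
          · rw [hx, map_one, map_one]
          · exact congrArg Subtype.val (Equiv.congr_fun hab ⟨x, hx⟩)
        have hT : Nat.card T = 3 := by
          haveI : Fintype (S : Subgroup G) := Fintype.ofFinite _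
          classical
          rw [Nat.card_eq_fintype_card, Fintype.card_subtype_compl, Fintype.card_subtype_eq,
            ← Nat.card_eq_fintype_card, h4]
        refine (card_subgroup_dvd_card φ.range).trans ((Subgroup.card_dvd_of_injective ψ hψ).trans ?_)
        rw [Nat.card_perm, hT]
        rfl
      have hodd : ¬ 2 ∣ (S : Subgroup G).index := S.not_dvd_index
      have hne : (S : Subgroup G).index ≠ 1 := by
        intro h1
        rw [index_eq_one] at h1
        haveI : Nontrivial (S : Subgroup G) := Finite.one_lt_card_iff_nontrivial.1 (by omega)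
        obtain ⟨a, ha⟩ := exists_ne (1 : (S : Subgroup G))
        obtain ⟨b, hb, hba⟩ : ∃ b : (S : Subgroup G), b ≠ 1 ∧ b ≠ a := by
          classical
          haveI : Fintype (S : Subgroup G) := Fintype.ofFinite _
          by_contra hc
          push Not at hc
          have hle : Nat.card (S : Subgroup G) ≤ 2 := by
            rw [Nat.card_eq_fintype_card, ← Finset.card_univ]
            refine (Finset.card_le_card (t := ({1, a} : Finset _)) fun x _ => ?_).trans Finset.card_le_two
            by_cases hx : x = 1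
            · simp [hx]
            · simp [hc x hx]
          omega
        have ho : ∀ c : (S : Subgroup G), c ≠ 1 → orderOf (c : G) = 2 := fun c hc =>
          orderOf_eq_prime (hel.2 c c.2) fun e => hc (Subtype.ext e)
        obtain ⟨g, hg⟩ := h.involutions (ho a ha) (ho b hb)
        have hgS : g ∈ (S : Subgroup G) := h1 ▸ mem_top g
        refine hba (Subtype.ext ?_)
        rw [← hg, show g * (a : G) = a * g from
          congrArg Subtype.val (hel.1.is_comm.comm (⟨g, hgS⟩ : (S : Subgroup G)) a), mul_inv_cancel_right]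
      have h6 := Nat.le_of_dvd (by norm_num) hle
      generalize (S : Subgroup G).index = i at hle hodd hne h6 ⊢
      interval_cases i <;> omega
    have h12 : Nat.card G = 12 := by rw [← (S : Subgroup G).card_mul_index, hidx, h4]
    obtain ⟨e⟩ := alt_four S h4 hC h12
    obtain ⟨e'⟩ := Cfsg.Agent.S0251.result (F := ZMod 3) (ZMod.card 3)
    exact ⟨e.trans e'.symm⟩
  · -- dimensions three and five
    left
    have hN : normalizer ((S : Subgroup G) : Set G) = ⊤ := normalizer_eq_top _
    set N := normalizer ((S : Subgroup G) : Set G)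
    haveI := isSolvable_normalizer_sylow S hel.1
    haveI : N.Normal := by rw [hN]; infer_instance
    have hcore : Cfsg.pPrimeCore 2 N = ⊥ := by
      have h := CfsgLib.Core.map_subtype_pPrimeCore_le (p := 2) N
      rwa [show Cfsg.pPrimeCore 2 G = ⊥ from hO, le_bot_iff,
        map_eq_bot_iff_of_injective _ N.subtype_injective] at h
    let e : G ≃* ↥N ⧸ Cfsg.pPrimeCore 2 N :=
      (topEquiv.symm.trans (MulEquiv.subgroupCongr hN.symm)).trans
        ((QuotientGroup.quotientMulEquivOfEq hcore).trans QuotientGroup.quotientBot).symm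
    refine ⟨?_, ?_⟩
    · refine Dvd.dvd.trans ?_ (card_subgroup_dvd_card (S : Subgroup G))
      rw [hn]
      exact pow_dvd_pow 2 hge
    · rcases Cfsg.Agent.S4025.result (h 2 Nat.prime_two) S n hge hel hn N rfl inferInstance with
        ⟨-, -, hh⟩ | ⟨-, -, ⟨e'⟩⟩
      · rcases hh rfl with ⟨⟨e'⟩⟩ | ⟨⟨e'⟩⟩
        · exact Or.inr (Or.inl ⟨e.trans e'⟩)
        · exact Or.inl ⟨e.trans e'⟩
      · exact Or.inr (Or.inr ⟨e.trans e'⟩)

/-- an involution commuting with all of a normal subgroup of a product of simple groups -/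
theorem no_full_centralized {T : Type*} [Group T] [IsSimpleGroup T] (hT : ¬ IsMulCommutative T) {m : ℕ}
    {s : T} (hs : s ≠ 1) {N : Subgroup (Fin m → T)} [N.Normal] (hN : N ≠ ⊥)
    (hc : ∀ x ∈ N, x * (fun _ => s) = (fun _ => s) * x) : False := by
  classical
  obtain ⟨y, hy, hy1⟩ := N.bot_or_exists_ne_one.resolve_left hN
  obtain ⟨j, hj⟩ := Function.ne_iff.1 hy1
  let f : T →* (Fin m → T) := MonoidHom.mulSingle (fun _ => T) j
  have hcen : center T = ⊥ := (Normal.eq_bot_or_eq_top inferInstance).resolve_right fun ht =>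
    hT ⟨⟨fun a b => mem_center_iff.1 (ht ▸ mem_top b) a⟩⟩
  haveI : (N.comap f).Normal := Normal.comap inferInstance f
  have htop : N.comap f = ⊤ := by
    refine (Normal.eq_bot_or_eq_top inferInstance).resolve_left fun hb => ?_
    refine hj (mem_bot.1 (hcen ▸ mem_center_iff.2 fun u => ?_))
    have h1 : f (y j * u * (y j)⁻¹ * u⁻¹) = y * f u * y⁻¹ * (f u)⁻¹ := by
      funext i
      by_cases hij : i = j
      · subst hij; simp [f]
      · simp [f, hij]
    have h2 : y j * u * (y j)⁻¹ * u⁻¹ ∈ N.comap f := by
      rw [mem_comap, h1, show y * f u * y⁻¹ * (f u)⁻¹ = y * (f u * y⁻¹ * (f u)⁻¹) by group]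
      exact N.mul_mem hy (Normal.conj_mem inferInstance _ (N.inv_mem hy) (f u))
    rw [hb, mem_bot, mul_inv_eq_one, mul_inv_eq_iff_eq_mul] at h2
    exact h2.symm
  refine hs (mem_bot.1 (hcen ▸ mem_center_iff.2 fun u => ?_))
  have := congrFun (hc (f u) (htop ▸ mem_top u : u ∈ N.comap f)) j
  simpa [f] using this

/-- the almost simple case -/
theorem elementary_cases (h : ConjP G) (hO : Cfsg.oddCore G = ⊥) (S : Sylow 2 G)
    (hel : Cfsg.IsElementaryAbelian 2 (S : Subgroup G)) (hS : 4 ≤ Nat.card (S : Subgroup G)) :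
    (8 ∣ Nat.card G ∧
      (Nonempty (G ≃* Cfsg.affineGroup (GaloisField 2 3)) ∨
        Nonempty (G ≃* Cfsg.semiaffineGroup (GaloisField 2 3)) ∨
        Nonempty (G ≃* Cfsg.semiaffineGroup (GaloisField 2 5)))) ∨
    Nonempty (G ≃* Matrix.ProjectiveSpecialLinearGroup (Fin 2) (ZMod 3)) ∨
    ∃ M : Subgroup G, M.Normal ∧ IsSimpleGroup M ∧ ¬ IsMulCommutative M ∧ (S : Subgroup G) ≤ M ∧
      Odd M.index ∧ centralizer (M : Set G) = ⊥ := by
  classical
  haveI : Fact (Nat.Prime 2) := ⟨Nat.prime_two⟩
  haveI : Nontrivial (S : Subgroup G) := Finite.one_lt_card_iff_nontrivial.1 (by omega)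
  haveI : Nontrivial G := Function.Injective.nontrivial (S : Subgroup G).subtype_injective
  obtain ⟨M, hM, hM1, hmin⟩ := CfsgLib.Components.exists_minimal_normal (G := G)
  haveI := hM
  have hordS : ∀ x ∈ (S : Subgroup G), x ≠ 1 → orderOf x = 2 := fun x hx h1 =>
    orderOf_eq_prime (hel.2 x hx) h1
  obtain ⟨a, haM, ha⟩ : ∃ a ∈ M, orderOf a = 2 := by
    by_contra hno
    push Not at hno
    exact hM1 (eq_bot_of_odd hO (odd_card_of_no_involution M hno))
  have hall : ∀ x : G, orderOf x = 2 → x ∈ M := fun x hx => h.mem_normal Nat.prime_two haM ha hx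
  have hSM : (S : Subgroup G) ≤ M := fun x hx => by
    by_cases hx1 : x = 1
    · rw [hx1]; exact M.one_mem
    · exact hall x (hordS x hx hx1)
  have hidx : Odd M.index := by
    rw [← Nat.not_even_iff_odd, even_iff_two_dvd]
    exact fun h2 => S.not_dvd_index (h2.trans (index_dvd_of_le hSM))
  by_cases hsol : Group.IsSolvable M
  · obtain ⟨p, hp, hpM, -, -⟩ := CfsgLib.Core.isPGroup_of_minimal_normal M hsol hM1 hmin
    obtain rfl : p = 2 := by
      haveI := Fact.mk hp
      obtain ⟨k, hk⟩ := IsPGroup.iff_card.1 hpM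
      have h2 : 2 ∣ p ^ k := hk ▸ ha ▸ orderOf_dvd_natCard M haM
      exact ((Nat.prime_dvd_prime_iff_eq Nat.prime_two hp).1 (Nat.prime_two.dvd_of_dvd_pow h2)).symm
    have hMS : M = (S : Subgroup G) := le_antisymm (hpM.le_sylow_of_normal S) hSM
    haveI : (S : Subgroup G).Normal := hMS ▸ hM
    rcases affine_cases h hO S hel hS with h' | h'
    · exact Or.inl h'
    · exact Or.inr (Or.inl h')
  · refine Or.inr (Or.inr ⟨M, hM, ?_⟩)
    obtain ⟨T, _, m, hT, hm, ⟨e⟩⟩ := CfsgLib.Perm.CharSimple.exists_iso_pi_of_minimal_normal M hM1 hmin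
    haveI := hT
    have hTc : ¬ IsMulCommutative T := fun hc => hsol (Group.isSolvable_of_comm fun a b => e.injective
      (funext fun i => by
        rw [map_mul, map_mul]
        exact hc.is_comm.comm _ _))
    have hm1 : m = 1 := by
      by_contra hne
      obtain ⟨i₀, hi₀⟩ : ∃ i, e ⟨a, haM⟩ i ≠ 1 := Function.ne_iff.1 fun h1 => by
        have h2 : e ⟨a, haM⟩ = 1 := h1
        rw [MulEquiv.map_eq_one_iff] at h2
        exact absurd ha (by rw [show a = 1 from congrArg Subtype.val h2, orderOf_one]; norm_num)
      set s : T := e ⟨a, haM⟩ i₀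
      have hs2 : orderOf s = 2 := orderOf_eq_prime (by
        have h1 : (⟨a, haM⟩ : M) ^ 2 = 1 := Subtype.ext (orderOf_dvd_iff_pow_eq_one.1 ha.dvd)
        rw [show s ^ 2 = (e ((⟨a, haM⟩ : M) ^ 2)) i₀ by rw [map_pow]; rfl, h1, map_one]; rfl) hi₀
      let i : Fin m := ⟨0, hm⟩
      let j : Fin m := ⟨1, by omega⟩
      let sing : Fin m → T →* (Fin m → T) := fun k => MonoidHom.mulSingle (fun _ => T) k
      have hsing : ∀ k, Function.Injective (sing k) := fun k => Pi.mulSingle_injective (M := fun _ => T) k
      have hord : ∀ z : Fin m → T, orderOf z = 2 → orderOf ((e.symm z : M) : G) = 2 := fun z hz => by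
        rw [Subgroup.orderOf_coe, MulEquiv.orderOf_eq, hz]
      have hd2 : orderOf (fun _ : Fin m => s) = 2 := orderOf_eq_prime
        (funext fun _ => orderOf_dvd_iff_pow_eq_one.1 hs2.dvd) fun h1 => by
          have := congrFun h1 i
          rw [Pi.one_apply] at this
          rw [show s = 1 from this, orderOf_one] at hs2
          omega
      obtain ⟨g, hg⟩ := h.involutions (hord (sing i s) (by rw [orderOf_injective _ (hsing i), hs2]))
        (hord _ hd2)
      -- transport a factor centralising the first involution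
      let κ : (Fin m → T) ≃* (Fin m → T) := (e.symm.trans (MulAut.conjNormal g : MulAut M)).trans e
      have hκ : κ (sing i s) = fun _ => s := by
        apply e.symm.injective
        refine Subtype.ext ?_
        simp only [κ, MulEquiv.trans_apply, MulEquiv.symm_apply_apply]
        rw [MulAut.conjNormal_apply]
        exact hg
      haveI : (sing j).range.Normal := ⟨by
        rintro _ ⟨u, rfl⟩ z
        refine ⟨z j * u * (z j)⁻¹, funext fun k => ?_⟩
        by_cases hk : k = j
        · subst hk; simp [sing]
        · simp [sing, hk]⟩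
      haveI : ((sing j).range.map κ.toMonoidHom).Normal := Normal.map inferInstance _ κ.surjective
      refine no_full_centralized hTc (s := s) (N := (sing j).range.map κ.toMonoidHom)
        (fun h1 => by rw [h1, orderOf_one] at hs2; omega) ?_ ?_
      · rw [Ne, map_eq_bot_iff_of_injective _ κ.injective, MonoidHom.range_eq_bot_iff]
        intro h1
        have h2 := DFunLike.congr_fun h1 s
        rw [MonoidHom.one_apply] at h2
        exact absurd hs2 (by rw [hsing j (h2.trans (map_one _).symm), orderOf_one]; norm_num)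
      · rintro _ ⟨_, ⟨u, rfl⟩, rfl⟩
        rw [← hκ]
        show κ (sing j u) * κ (sing i s) = κ (sing i s) * κ (sing j u)
        rw [← map_mul, ← map_mul]
        exact congrArg κ ((Pi.mulSingle_commute (f := fun _ : Fin m => T) (show j ≠ i by simp [i, j]) u s).eq :)
    subst hm1
    haveI : Nontrivial M := M.nontrivial_iff_ne_bot.2 hM1
    have hsimp : IsSimpleGroup M := IsSimpleGroup.isSimpleGroup_of_surjective
      (e.trans (MulEquiv.piUnique fun _ : Fin 1 => T)).symm.toMonoidHom (MulEquiv.surjective _)
    refine ⟨hsimp, fun hc => hsol (Group.isSolvable_of_comm fun a b => hc.is_comm.comm a b), hSM, hidx, ?_⟩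
    haveI := hsimp
    refine eq_bot_of_odd hO (odd_card_of_no_involution _ fun x hx h2 => ?_)
    have hxM := hall x h2
    have hcx : (⟨x, hxM⟩ : M) ∈ center M := mem_center_iff.2 fun y =>
      Subtype.ext (mem_centralizer_iff.1 hx _ y.2)
    rcases (Normal.eq_bot_or_eq_top (inferInstance : (center M).Normal)) with hb | ht
    · rw [hb, mem_bot] at hcx
      rw [show x = 1 from congrArg Subtype.val hcx, orderOf_one] at h2
      omega
    · exact hsol (Group.isSolvable_of_comm fun p q => mem_center_iff.1 (ht ▸ mem_top q) p)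

end CfsgLib.Orders.EqOrder
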