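import Cfsg.Agent.Lib.Orders.EqualOrder.Shape
import Cfsg.Agent.Lib.Orders.EqualOrder.Exceptional
import Cfsg.Agent.Lib.Recog.Walter.List
import Cfsg.Agent.Lib.Classical.Dickson.PSL
import Cfsg.Agent.S0252
import Cfsg.Agent.S0253

/-!
Owner: helper24. S4019: the list for elementary abelian Sylow 2-subgroups, given the list of simple groups with
abelian Sylow 2-subgroups.
-/

set_option autoImplicit false
set_option linter.all false

namespace CfsgLib.Orders.EqOrder

open Subgroup

universe u
variable {G : Type u} [Group G] [Finite G]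

/-- the members of the list with a Sylow 2-subgroup of order at least eight -/
def Big (G : Type u) [Group G] : Prop :=
  Nonempty (G ≃* Cfsg.affineGroup (GaloisField 2 3)) ∨
  Nonempty (G ≃* Cfsg.semiaffineGroup (GaloisField 2 3)) ∨
  Nonempty (G ≃* Cfsg.semiaffineGroup (GaloisField 2 5)) ∨
  Cfsg.IsJ1 G ∨
  Nonempty (G ≃* Matrix.ProjectiveSpecialLinearGroup (Fin 2) (GaloisField 2 3)) ∨
  Nonempty (G ≃* MulAut (Matrix.ProjectiveSpecialLinearGroup (Fin 2) (GaloisField 2 5)))

/-- the members of the list with a Klein four Sylow 2-subgroup -/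
def Small (G : Type u) [Group G] : Prop :=
  ∃ (p : ℕ) (_ : Fact p.Prime), (p % 8 = 3 ∨ p % 8 = 5) ∧
    (Nonempty (G ≃* Matrix.ProjectiveSpecialLinearGroup (Fin 2) (ZMod p)) ∨
     Nonempty (G ≃* Matrix.ProjectiveSpecialLinearGroup (Fin 2) (GaloisField p 3)))

theorem exists_ringEquiv {K K' : Type} [Field K] [Fintype K] [Field K'] [Fintype K']
    (h : Fintype.card K = Fintype.card K') : Nonempty (K ≃+* K') :=
  ⟨FiniteField.ringEquivOfCardEq h⟩

theorem card_galois (p n : ℕ) [Fact p.Prime] (hn : n ≠ 0) [Fintype (GaloisField p n)] :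
    Fintype.card (GaloisField p n) = p ^ n := by
  rw [← Nat.card_eq_fintype_card, GaloisField.card p n hn]

variable (h : ConjP G) (M : Subgroup G) [M.Normal]

include h in
theorem coprime_index {r : ℕ} (hr : r.Prime) (hy : ∃ y : G, y ∉ M ∧ orderOf y = r)
    (hd : r ∣ Nat.card M) : False := by
  haveI := Fact.mk hr
  obtain ⟨x, hx⟩ := exists_prime_orderOf_dvd_card' (G := M) r hd
  obtain ⟨y, hyM, hy⟩ := hy
  exact hyM (h.mem_normal hr x.2 ((Subgroup.orderOf_coe x).trans hx) hy)

theorem isSolvable_normalizer_of {p : ℕ} [Fact p.Prime] (Q : Sylow p M) (hM : Odd M.index)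
    (hQ : Group.IsSolvable ↥(normalizer ((Q : Subgroup M) : Set M))) :
    Group.IsSolvable ↥(normalizer (((Q : Subgroup M).map M.subtype) : Set G)) := by
  set N := normalizer (((Q : Subgroup M).map M.subtype) : Set G)
  haveI : Group.IsSolvable ↥(M.subgroupOf N) := by
    haveI := hQ
    let f : ↥(M.subgroupOf N) →* M :=
      { toFun := fun x => ⟨((x : N) : G), mem_subgroupOf.1 x.2⟩
        map_one' := rfl
        map_mul' := fun a b => rfl }
    have hf : ∀ x, f x ∈ normalizer ((Q : Subgroup M) : Set M) := fun x => by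
      rw [mem_normalizer_iff]
      intro m
      have hx := mem_normalizer_iff.1 (x : N).2 (m : G)
      constructor
      · intro hm
        obtain ⟨z, hz, e⟩ := hx.1 ⟨m, hm, rfl⟩
        rwa [show f x * m * (f x)⁻¹ = z from Subtype.ext e.symm]
      · intro hm
        obtain ⟨z, hz, e⟩ := hx.2 ⟨_, hm, rfl⟩
        rwa [show m = z from Subtype.ext e.symm]
    exact Group.isSolvable_of_isSolvable_injective (f := f.codRestrict _ hf)
      fun a b hab => Subtype.ext (Subtype.ext (congrArg (fun z : normalizer ((Q : Subgroup M) : Set M) => ((z : M) : G)) hab))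
  haveI : Group.IsSolvable (↥N ⧸ M.subgroupOf N) := isSolvable_odd (by
    rw [← index_eq_card]
    exact Odd.of_dvd_nat hM (relIndex_dvd_index_of_normal M N))
  exact (Group.isSolvable_iff_subgroup_quotient (M.subgroupOf N)).2 ⟨inferInstance, inferInstance⟩

include h in
theorem odd_socle (hC : centralizer (M : Set G) = ⊥) (hM : Odd M.index) {F : Type} [Field F] [Fintype F]
    (h8 : Fintype.card F % 8 = 3 ∨ Fintype.card F % 8 = 5)
    (e : M ≃* Matrix.ProjectiveSpecialLinearGroup (Fin 2) F) : Small G := by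
  classical
  obtain ⟨p, hpc⟩ := CharP.exists F
  haveI := hpc
  obtain ⟨⟨f, hf⟩, hp, hF⟩ := FiniteField.card F p
  simp only [PNat.mk_coe] at hF
  haveI := Fact.mk hp
  have hp2 : p ≠ 2 := by
    rintro rfl
    have := (Nat.dvd_of_mod_eq_zero (show 2 ^ f % 2 = 0 from Nat.mod_eq_zero_of_dvd (dvd_pow_self 2 hf.ne')))
    omega
  obtain ⟨hd, hy⟩ := out_facts (F := F) hf hF M e hC hM
  have hcardM : 2 * Nat.card M = p ^ f * ((p ^ f) ^ 2 - 1) := by
    have hc := CfsgLib.Classical.Two.card_PSL_two (F := F)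
    rwa [show Nat.gcd 2 (Fintype.card F - 1) = 2 from Nat.gcd_eq_left (by omega), hF,
      ← Nat.card_congr e.toEquiv] at hc
  have hpM : p ∣ Nat.card M := by
    have h1 : p ∣ 2 * Nat.card M := hcardM ▸ Dvd.dvd.mul_right (dvd_pow_self p hf.ne') _
    exact (hp.dvd_mul.1 h1).resolve_left fun h2 => hp2 ((Nat.prime_dvd_prime_iff_eq hp Nat.prime_two).1 h2)
  have h3M : 3 ∣ Nat.card M := by
    have h3 : 3 ∣ p ^ f * ((p ^ f) ^ 2 - 1) := by
      generalize p ^ f = q
      have := Nat.mod_lt q (show 3 > 0 by norm_num)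
      rcases (show q % 3 = 0 ∨ q % 3 = 1 ∨ q % 3 = 2 by omega) with e | e | e
      · exact Dvd.dvd.mul_right (Nat.dvd_of_mod_eq_zero e) _
      all_goals
        refine Dvd.dvd.mul_left ?_ q
        refine (Nat.modEq_iff_dvd' (Nat.one_le_pow _ _ (by omega))).1 ?_
        show 1 % 3 = q ^ 2 % 3
        rw [Nat.pow_mod, e]
    rw [← hcardM] at h3
    exact ((Nat.prime_three.dvd_mul).1 h3).resolve_left (by norm_num)
  have hnot : ∀ r : ℕ, r.Prime → r ∣ M.index → r ∣ Nat.card M → False := fun r hr hri hrM =>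
    coprime_index h M hr (hy r hr hri) hrM
  -- the degree
  have hf13 : f = 1 ∨ f = 3 := by
    rcases (show f = 1 ∨ f = 2 ∨ 3 ≤ f by omega) with rfl | rfl | h3
    · exact Or.inl rfl
    · exfalso
      have hpo : p % 2 = 1 := Nat.odd_iff.1 (hp.odd_of_ne_two hp2)
      rw [hF, Nat.pow_mod] at h8
      have : p % 8 = 1 ∨ p % 8 = 3 ∨ p % 8 = 5 ∨ p % 8 = 7 := by omega
      rcases this with e' | e' | e' | e' <;> rw [e'] at h8 <;> norm_num at h8
    · obtain ⟨Q⟩ : Nonempty (Sylow p M) := inferInstance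
      obtain ⟨hQc, hQab, hQexp, hQsol⟩ := sylow_char hp2 hF e Q
      have hPi : ¬ p ∣ ((Q : Subgroup M).map M.subtype).index := by
        rw [index_map_subtype, hp.dvd_mul]
        rintro (hd' | hd')
        · exact Q.not_dvd_index hd'
        · exact hnot p hp hd' hpM
      let P : Sylow p G := (Q.isPGroup'.map M.subtype).toSylow hPi
      have hel : Cfsg.IsElementaryAbelian p (P : Subgroup G) := by
        refine ⟨⟨⟨?_⟩⟩, ?_⟩
        · rintro ⟨_, a, ha, rfl⟩ ⟨_, b, hb, rfl⟩
          exact Subtype.ext (congrArg (fun z : (Q : Subgroup M) => ((z : M) : G))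
            (hQab.is_comm.comm (⟨a, ha⟩ : (Q : Subgroup M)) ⟨b, hb⟩))
        · rintro _ ⟨a, ha, rfl⟩
          rw [← map_pow, hQexp a ha, map_one]
      have hPc : Nat.card P = p ^ f := by
        show Nat.card ↥((Q : Subgroup M).map M.subtype) = _
        rw [card_map_of_injective M.subtype_injective, hQc]
      haveI : Group.IsSolvable ↥(normalizer ((P : Subgroup G) : Set G)) :=
        isSolvable_normalizer_of M Q hM hQsol
      rcases Cfsg.Agent.S4025.result (h p hp) P f h3 hel hPc _ rfl inferInstance with ⟨e3, -⟩ | ⟨-, e2, -⟩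
      · exact Or.inr e3
      · exact absurd e2 hp2
  have hidx : M.index = 1 := by
    rcases hf13 with rfl | rfl
    · exact Nat.dvd_one.1 hd
    · refine ((Nat.dvd_prime Nat.prime_three).1 hd).resolve_right fun e3 => ?_
      exact hnot 3 Nat.prime_three (by rw [e3]) h3M
  rw [index_eq_one] at hidx
  subst hidx
  rcases hf13 with rfl | rfl
  · rw [pow_one] at hF
    refine ⟨p, inferInstance, by rw [← hF]; exact h8, Or.inl ?_⟩
    obtain ⟨φ⟩ := exists_ringEquiv (K := F) (K' := ZMod p) (by rw [hF, ZMod.card])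
    exact ⟨topEquiv.symm.trans (e.trans (CfsgLib.Classical.Dickson.pslCongr φ))⟩
  · refine ⟨p, inferInstance, ?_, Or.inr ?_⟩
    · have hm : p ^ 3 % 8 = p % 8 := by
        have hpo : p % 2 = 1 := Nat.odd_iff.1 (hp.odd_of_ne_two hp2)
        rw [Nat.pow_mod]
        rcases (show p % 8 = 1 ∨ p % 8 = 3 ∨ p % 8 = 5 ∨ p % 8 = 7 by omega) with e' | e' | e' | e' <;>
          rw [e']
      rw [hF, hm] at h8
      exact h8
    · haveI : Fintype (GaloisField p 3) := Fintype.ofFinite _
      obtain ⟨φ⟩ := exists_ringEquiv (K := F) (K' := GaloisField p 3)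
        (by rw [hF, card_galois p 3 (by norm_num)])
      exact ⟨topEquiv.symm.trans (e.trans (CfsgLib.Classical.Dickson.pslCongr φ))⟩

theorem five_dvd_semiaffine : 5 ∣ Nat.card (Cfsg.semiaffineGroup (GaloisField 2 5)) := by
  haveI : Fintype (GaloisField 2 5) := Fintype.ofFinite _
  haveI : Fact (Nat.Prime 2) := ⟨Nat.prime_two⟩
  obtain ⟨hc, -⟩ := CfsgLib.Known.AutPSL.card_ringAut (F := GaloisField 2 5) (card_galois 2 5 (by norm_num))
    (by norm_num)
  let j : (GaloisField 2 5 ≃+* GaloisField 2 5) →* Cfsg.semiaffineGroup (GaloisField 2 5) :=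
    { toFun := fun φ => ⟨φ.toEquiv, 1, 0, φ, fun x => by simp⟩
      map_one' := rfl
      map_mul' := fun a b => rfl }
  have hj : Function.Injective j := by
    intro a b hab
    have h1 : (a.toEquiv : Equiv.Perm (GaloisField 2 5)) = b.toEquiv := congrArg Subtype.val hab
    exact RingEquiv.ext fun x => Equiv.congr_fun h1 x
  exact dvd_trans (dvd_of_eq hc.symm) (Subgroup.card_dvd_of_injective j hj)

include h in
theorem two_socle (S : Sylow 2 G) (hel : Cfsg.IsElementaryAbelian 2 (S : Subgroup G))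
    (hC : centralizer (M : Set G) = ⊥) (hM : Odd M.index) {F : Type} [Field F] [Fintype F] {n : ℕ}
    (hn : 3 ≤ n) (hF : Fintype.card F = 2 ^ n) (hS : Nat.card (S : Subgroup G) = 2 ^ n)
    (e : M ≃* Matrix.ProjectiveSpecialLinearGroup (Fin 2) F) : Big G := by
  classical
  haveI : Fact (Nat.Prime 2) := ⟨Nat.prime_two⟩
  obtain ⟨hd, hy⟩ := out_facts (F := F) (by omega) hF M e hC hM
  have hgcd : Nat.gcd 2 (Fintype.card F - 1) = 1 := by
    refine (Nat.prime_two.coprime_iff_not_dvd).2 fun h2 => ?_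
    have h4 : 2 ∣ Fintype.card F := hF ▸ dvd_pow_self 2 (by omega)
    have : 1 ≤ Fintype.card F := Fintype.card_pos
    omega
  have hcardM : Nat.card M = 2 ^ n * ((2 ^ n) ^ 2 - 1) := by
    have hc := CfsgLib.Classical.Two.card_PSL_two (F := F)
    rwa [hgcd, one_mul, hF, ← Nat.card_congr e.toEquiv] at hc
  haveI := isSolvable_normalizer_sylow S hel.1
  rcases Cfsg.Agent.S4025.result (h 2 Nat.prime_two) S n hn hel hS _ rfl inferInstance with
    ⟨rfl, -, -⟩ | ⟨rfl, -, ⟨e'⟩⟩
  · have hidx : M.index = 1 := ((Nat.dvd_prime Nat.prime_three).1 hd).resolve_right fun e3 =>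
      coprime_index h M Nat.prime_three (hy 3 Nat.prime_three (by rw [e3])) (by rw [hcardM]; norm_num)
    rw [index_eq_one] at hidx
    subst hidx
    haveI : Fintype (GaloisField 2 3) := Fintype.ofFinite _
    obtain ⟨φ⟩ := exists_ringEquiv (K := F) (K' := GaloisField 2 3) (by rw [hF, card_galois 2 3 (by norm_num)])
    exact Or.inr (Or.inr (Or.inr (Or.inr (Or.inl
      ⟨topEquiv.symm.trans (e.trans (CfsgLib.Classical.Dickson.pslCongr φ))⟩))))
  · set N := normalizer ((S : Subgroup G) : Set G)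
    have h5G : 5 ∣ Nat.card G := by
      refine dvd_trans ?_ (card_subgroup_dvd_card N)
      refine dvd_trans (dvd_trans five_dvd_semiaffine (dvd_of_eq (Nat.card_congr e'.symm.toEquiv))) ?_
      exact card_quotient_dvd_card _
    have hidx : M.index = 5 := ((Nat.dvd_prime (by norm_num)).1 hd).resolve_left fun e1 => by
      rw [← M.card_mul_index, e1, hcardM] at h5G
      norm_num only at h5G
    haveI : Fintype (GaloisField 2 5) := Fintype.ofFinite _
    obtain ⟨φ⟩ := exists_ringEquiv (K := F) (K' := GaloisField 2 5) (by rw [hF, card_galois 2 5 (by norm_num)])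
    set T := Matrix.ProjectiveSpecialLinearGroup (Fin 2) F
    obtain ⟨ψ, -, hψ2, -, hker⟩ := CfsgLib.Known.AutPSL.exists_out_hom (n := 2) (F := F) le_rfl hF
      (by norm_num : 1 ≤ 5)
    have hout : Nat.card (Cfsg.Out T) ≤ 5 := by
      have hinj : Function.Injective ψ := (MonoidHom.ker_eq_bot_iff _).1 (card_eq_one.1 (by
        rw [hker, ← hF]; exact hgcd))
      have := Nat.card_le_card_of_injective (fun x => (ψ x).1) fun a b hab =>
        hinj (Prod.ext hab ((hψ2 rfl a).trans (hψ2 rfl b).symm))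
      simpa using this
    have hinn : Nat.card (Cfsg.Inn T) = Nat.card M := by
      rw [← map_actHom M e, card_map_of_injective (actHom_injective M e hC)]
    haveI : Finite (MulAut T) := inferInstance
    have hle : Nat.card (MulAut T) ≤ Nat.card G := by
      rw [← (Cfsg.Inn T).card_mul_index, ← M.card_mul_index, hinn, hidx]
      exact Nat.mul_le_mul_left _ hout
    have hbij := Function.Injective.bijective_of_nat_card_le (actHom_injective M e hC) hle
    exact Or.inr (Or.inr (Or.inr (Or.inr (Or.inr ⟨(MulEquiv.ofBijective _ hbij).trans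
      (MulAut.congr (CfsgLib.Classical.Dickson.pslCongr φ))⟩))))

include h in
/-- groups without odd core with elementary abelian Sylow 2-subgroups -/
theorem elementary_list (hW : CfsgLib.Walter.WalterList.{u}) (hO : Cfsg.oddCore G = ⊥) (S : Sylow 2 G)
    (hel : Cfsg.IsElementaryAbelian 2 (S : Subgroup G)) (hS : 4 ≤ Nat.card (S : Subgroup G)) :
    (8 ∣ Nat.card G ∧ Big G) ∨ Small G := by
  classical
  haveI : Fact (Nat.Prime 2) := ⟨Nat.prime_two⟩
  rcases elementary_cases h hO S hel hS with ⟨h8, hb⟩ | h3 | ⟨M, hMn, hMs, hMc, hSM, hMi, hC⟩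
  · exact Or.inl ⟨h8, hb.imp id (Or.imp id Or.inl)⟩
  · exact Or.inr ⟨3, ⟨Nat.prime_three⟩, Or.inl rfl, Or.inl h3⟩
  haveI := hMn
  haveI := hMs
  have habG := CfsgLib.AbelianSolvCent.abSylow_of_one S hel.1
  have hS2 : Nat.card (S : Subgroup G) = 2 ^ (Nat.card M).factorization 2 := by
    rw [← Nat.card_congr (subgroupOfEquivOfLe hSM).toEquiv]
    exact (S.subtype hSM).card_eq_multiplicity
  rcases hW M hMc (CfsgLib.AbelianSolvCent.abSylow_subgroup habG M) with
    ⟨n, hn, F, _, _, hF, ⟨e⟩⟩ | ⟨F, _, _, h5, h8, ⟨e⟩⟩ | hJ | ⟨F, _, _, hc, ⟨c⟩⟩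
  · rcases Nat.lt_or_ge n 3 with hlt | hge
    · obtain rfl : n = 2 := by omega
      haveI : Fact (Nat.Prime 5) := ⟨by norm_num⟩
      obtain ⟨e1⟩ := Cfsg.Agent.S0252.result (F := F) (by rw [hF]; norm_num)
      obtain ⟨e2⟩ := Cfsg.Agent.S0253.result (F := ZMod 5) (ZMod.card 5)
      exact Or.inr (odd_socle h M hC hMi (F := ZMod 5) (by rw [ZMod.card]; norm_num)
        (e.trans (e1.trans e2.symm)))
    · have hcardM : Nat.card M = 2 ^ n * ((2 ^ n) ^ 2 - 1) := by
        have hc := CfsgLib.Classical.Two.card_PSL_two (F := F)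
        have hgcd : Nat.gcd 2 (Fintype.card F - 1) = 1 := by
          refine (Nat.prime_two.coprime_iff_not_dvd).2 fun h2 => ?_
          have h4 : 2 ∣ Fintype.card F := hF ▸ dvd_pow_self 2 (by omega)
          have : 1 ≤ Fintype.card F := Fintype.card_pos
          omega
        rwa [hgcd, one_mul, hF, ← Nat.card_congr e.toEquiv] at hc
      have h1 : 1 ≤ (2 ^ n) ^ 2 := Nat.one_le_pow _ _ (pow_pos (by norm_num) n)
      have hodd : ¬ 2 ∣ (2 ^ n) ^ 2 - 1 := by
        have : 2 ∣ (2 ^ n) ^ 2 := dvd_pow (dvd_pow_self 2 (by omega)) two_ne_zero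
        omega
      have hfac : (Nat.card M).factorization 2 = n := by
        rw [hcardM, Nat.factorization_mul (pow_ne_zero _ two_ne_zero)
          (fun e0 => hodd (by rw [e0]; exact dvd_zero 2)), Finsupp.add_apply,
          Nat.factorization_eq_zero_of_not_dvd hodd, add_zero,
          Nat.Prime.factorization_pow Nat.prime_two, Finsupp.single_eq_same]
      rw [hfac] at hS2
      refine Or.inl ⟨?_, two_socle h M S hel hC hMi hge hF hS2 e⟩
      refine (pow_dvd_pow 2 hge).trans ?_
      rw [← hS2]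
      exact card_subgroup_dvd_card _
  · exact Or.inr (odd_socle h M hC hMi h8 e)
  · obtain ⟨-, hJc⟩ := hJ
    have hMt := j1_socle M hJc hC
    subst hMt
    have hcard : Nat.card G = 175560 := by rw [← hJc, card_top]
    refine Or.inl ⟨by rw [hcard]; norm_num, Or.inr (Or.inr (Or.inr (Or.inl ⟨?_, hcard⟩)))⟩
    haveI : Nontrivial G := Finite.one_lt_card_iff_nontrivial.1 (by rw [hcard]; norm_num)
    exact IsSimpleGroup.isSimpleGroup_of_surjective (topEquiv (G := G)).toMonoidHom (topEquiv (G := G)).surjective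
  · exact (no_ree h M c).elim

end CfsgLib.Orders.EqOrder
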